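import Cfsg.Agent.FiFour.Quad.Data
import Cfsg.Agent.Classical.Misc.Reflections
import Cfsg.Agent.Classical.Orth.LowRankMinusSix
import Cfsg.Agent.Classical.OrthSylowTwo.Transport
import Cfsg.Agent.S0280

/-!
The 126 classes of vectors of norm one in six coordinates modulo three, the action of the isometries on them,
and the group of permutations keeping orthogonality.
-/

set_option autoImplicit false
set_option maxRecDepth 100000
set_option linter.unusedSectionVars false

namespace Cfsg.Lib.FiFour.Quad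

open Cfsg Matrix Cfsg.Lib.Classical

/-- Three elements. -/
abbrev K3 := ZMod 3

/-- Six coordinates. -/
abbrev V6 := Fin 6 → K3

/-- The sum of six squares. -/
noncomputable def Q6s : QuadraticForm K3 V6 := QuadraticMap.weightedSumSquares K3 (fun _ : Fin 6 => (1 : K3))

/-- The value of the sum of six squares. -/
def sq6 (x : V6) : K3 := x 0 * x 0 + x 1 * x 1 + x 2 * x 2 + x 3 * x 3 + x 4 * x 4 + x 5 * x 5

/-- The product of two vectors. -/
def dot6 (x y : V6) : K3 := x 0 * y 0 + x 1 * y 1 + x 2 * y 2 + x 3 * y 3 + x 4 * y 4 + x 5 * y 5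

theorem q6_apply (x : V6) : Q6s x = sq6 x := by
  simp [Q6s, QuadraticMap.weightedSumSquares_apply, Fin.sum_univ_six, sq6]

theorem polar6s (x y : V6) : QuadraticMap.polar (⇑Q6s) x y = 2 * dot6 x y := by
  simp only [QuadraticMap.polar, q6_apply, sq6, dot6, Pi.add_apply]
  ring

/-- A vector from its code. -/
def dec (c : ℕ) : V6 :=
  ![(c : K3), ((c / 3 : ℕ) : K3), ((c / 9 : ℕ) : K3), ((c / 27 : ℕ) : K3), ((c / 81 : ℕ) : K3), ((c / 243 : ℕ) : K3)]

/-- The code of a vector. -/
def enc (x : V6) : ℕ :=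
  (x 0).val + 3 * (x 1).val + 9 * (x 2).val + 27 * (x 3).val + 81 * (x 4).val + 243 * (x 5).val

/-- The vector of a class. -/
def vv (k : Fin 126) : V6 := dec (qVec.getD k.val 0)

/-- The class of a vector. -/
def cls (x : V6) : Fin 126 := Fin.ofNat 126 (qCls.getD (enc x) 0)

theorem vv_spec : ∀ k : Fin 126, sq6 (vv k) = 1 ∧ cls (vv k) = k ∧ cls (-vv k) = k := by decide +kernel

theorem cover_code : ∀ c : Fin 729, sq6 (dec c.val) = 1 →
    dec c.val = vv (cls (dec c.val)) ∨ dec c.val = -vv (cls (dec c.val)) := by decide +kernel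

theorem enc_lt (x : V6) : enc x < 729 := by
  have h : ∀ i, (x i).val < 3 := fun i => ZMod.val_lt _
  have := h 0; have := h 1; have := h 2; have := h 3; have := h 4; have := h 5
  unfold enc; omega

theorem dec_enc (x : V6) : dec (enc x) = x := by
  have h : ∀ i, (x i).val < 3 := fun i => ZMod.val_lt _
  have := h 0; have := h 1; have := h 2; have := h 3; have := h 4; have := h 5
  have key : ∀ (a : K3) (n : ℕ), n % 3 = a.val → (n : K3) = a := fun a n e => by
    rw [← ZMod.natCast_mod, e, ZMod.natCast_zmod_val]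
  funext i
  fin_cases i <;> simp only [dec, enc, Matrix.cons_val, Fin.zero_eta, Fin.mk_one, Fin.reduceFinMk] <;>
    exact key _ _ (by omega)

theorem cover {x : V6} (hx : sq6 x = 1) : x = vv (cls x) ∨ x = -vv (cls x) := by
  have h := cover_code ⟨enc x, enc_lt x⟩
  simp only [dec_enc] at h
  exact h hx

theorem sq6_neg (x : V6) : sq6 (-x) = sq6 x := by simp [sq6]

theorem cls_of {x : V6} {k : Fin 126} (h : x = vv k ∨ x = -vv k) : cls x = k := by
  rcases h with rfl | rfl
  exacts [(vv_spec k).2.1, (vv_spec k).2.2]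

theorem cls_neg {x : V6} (hx : sq6 x = 1) : cls (-x) = cls x := by
  refine cls_of ?_
  rcases cover hx with h | h
  · exact Or.inr (congrArg Neg.neg h)
  · exact Or.inl ((congrArg Neg.neg h).trans (neg_neg _))

/-- The matrix of an isometry. -/
abbrev mx (g : Cfsg.isometryGroup K3 (⇑Q6s)) : Matrix (Fin 6) (Fin 6) K3 :=
  ((g : Matrix.GeneralLinearGroup (Fin 6) K3) : Matrix (Fin 6) (Fin 6) K3)

theorem mx_sq (g : Cfsg.isometryGroup K3 (⇑Q6s)) (x : V6) : sq6 (mx g *ᵥ x) = sq6 x := by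
  rw [← q6_apply, ← q6_apply]
  exact (Refl.mem_iff Q6s).1 g.2 x

theorem mx_dot (g : Cfsg.isometryGroup K3 (⇑Q6s)) (x y : V6) : dot6 (mx g *ᵥ x) (mx g *ᵥ y) = dot6 x y := by
  have h : QuadraticMap.polar (⇑Q6s) (mx g *ᵥ x) (mx g *ᵥ y) = QuadraticMap.polar (⇑Q6s) x y := by
    simp only [QuadraticMap.polar, ← mulVec_add, q6_apply, mx_sq]
  rw [polar6s, polar6s] at h
  exact mul_left_cancel₀ (by decide) h

/-- An isometry on the classes. -/
def rhoFun (g : Cfsg.isometryGroup K3 (⇑Q6s)) (k : Fin 126) : Fin 126 := cls (mx g *ᵥ vv k)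

theorem rhoFun_mul (g h : Cfsg.isometryGroup K3 (⇑Q6s)) (k : Fin 126) :
    rhoFun (g * h) k = rhoFun g (rhoFun h k) := by
  have hh : sq6 (mx h *ᵥ vv k) = 1 := (mx_sq h _).trans (vv_spec k).1
  unfold rhoFun
  rw [show mx (g * h) *ᵥ vv k = mx g *ᵥ (mx h *ᵥ vv k) from Refl.mulVec_mul Q6s g h _]
  rcases cover hh with e | e
  · rw [← e]
  · conv_lhs => rw [e, mulVec_neg, cls_neg ((mx_sq g _).trans (vv_spec _).1)]

theorem rhoFun_one (k : Fin 126) : rhoFun 1 k = k := by
  simp [rhoFun, mx, (vv_spec k).2.1]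

/-- The isometries on the classes. -/
noncomputable def rho : Cfsg.isometryGroup K3 (⇑Q6s) →* Equiv.Perm (Fin 126) where
  toFun g := ⟨rhoFun g, rhoFun g⁻¹, fun k => by rw [← rhoFun_mul, inv_mul_cancel, rhoFun_one],
    fun k => by rw [← rhoFun_mul, mul_inv_cancel, rhoFun_one]⟩
  map_one' := Equiv.ext rhoFun_one
  map_mul' g h := Equiv.ext (rhoFun_mul g h)

theorem rho_apply (g : Cfsg.isometryGroup K3 (⇑Q6s)) (k : Fin 126) : rho g k = cls (mx g *ᵥ vv k) := rfl

/-- Orthogonality of two classes. -/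
def adjQ (k l : Fin 126) : Bool := (k != l) && (dot6 (vv k) (vv l) == 0)

theorem dot6_neg (x y : V6) : dot6 (-x) y = -dot6 x y ∧ dot6 x (-y) = -dot6 x y := by
  constructor <;> simp [dot6] <;> ring

theorem dot_zero_of_cover {x x' y y' : V6} (hx : x = x' ∨ x = -x') (hy : y = y' ∨ y = -y') :
    dot6 x y = 0 ↔ dot6 x' y' = 0 := by
  rcases hx with rfl | rfl <;> rcases hy with rfl | rfl <;>
    simp [(dot6_neg _ _).1, (dot6_neg _ _).2]

theorem rho_adj (g : Cfsg.isometryGroup K3 (⇑Q6s)) (k l : Fin 126) : adjQ (rho g k) (rho g l) = adjQ k l := by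
  have hc : ∀ m, mx g *ᵥ vv m = vv (rho g m) ∨ mx g *ᵥ vv m = -vv (rho g m) := fun m =>
    cover ((mx_sq g _).trans (vv_spec m).1)
  have h0 : dot6 (vv (rho g k)) (vv (rho g l)) = 0 ↔ dot6 (vv k) (vv l) = 0 :=
    (dot_zero_of_cover (hc k) (hc l)).symm.trans (by rw [mx_dot g (vv k) (vv l)])
  rw [Bool.eq_iff_iff]
  simp only [adjQ, Bool.and_eq_true, bne_iff_ne, beq_iff_eq, h0, ne_eq, EmbeddingLike.apply_eq_iff_eq]

theorem rho_eq_one {g : Cfsg.isometryGroup K3 (⇑Q6s)} (h : rho g = 1) : g = 1 ∨ mx g = -1 := by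
  have hk : ∀ k, mx g *ᵥ vv k = vv k ∨ mx g *ᵥ vv k = -vv k := fun k => by
    have hc : cls (mx g *ᵥ vv k) = k := (rho_apply g k).symm.trans (by rw [h]; rfl)
    have := cover ((mx_sq g _).trans (vv_spec k).1)
    rwa [hc] at this
  have hx : ∀ x : V6, sq6 x = 1 → mx g *ᵥ x = x ∨ mx g *ᵥ x = -x := fun x hx => by
    rcases cover hx with e | e <;> rcases hk (cls x) with k' | k' <;> rw [e]
    · exact Or.inl k'
    · exact Or.inr k'
    · exact Or.inl (by rw [mulVec_neg, k'])
    · exact Or.inr (by rw [mulVec_neg, k'])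
  have hd : ∀ i, ∃ s : K3, ∀ r, mx g r i = if r = i then s else 0 := fun i => by
    rcases hx (Pi.single i 1) (by revert i; decide) with e | e <;> rw [mulVec_single_one] at e
    · refine ⟨1, fun r => (congrFun e r).trans ?_⟩
      simp [Pi.single_apply]
    · refine ⟨-1, fun r => (congrFun e r).trans ?_⟩
      by_cases hr : r = i <;> simp [hr]
  choose s hs using hd
  have hmul : ∀ x : V6, mx g *ᵥ x = fun r => s r * x r := fun x => funext fun r => by
    simp [mulVec, dotProduct, hs, Finset.sum_ite_eq, mul_comm]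
  have h1 := hx ![1, 1, 1, 1, 0, 0] (by decide)
  have h2 := hx ![0, 0, 1, 1, 1, 1] (by decide)
  rw [hmul] at h1 h2
  have hall : (∀ r, s r = 1) ∨ ∀ r, s r = -1 := by
    rcases h1 with a | a <;> rcases h2 with b | b
    all_goals
      have a0 := congrFun a 0; have a1 := congrFun a 1; have a2 := congrFun a 2; have a3 := congrFun a 3
      have b2 := congrFun b 2; have b3 := congrFun b 3; have b4 := congrFun b 4; have b5 := congrFun b 5
      simp at a0 a1 a2 a3 b2 b3 b4 b5
    · exact Or.inl fun r => by fin_cases r <;> assumption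
    · rw [a2] at b2; exact absurd b2 (by decide)
    · rw [a2] at b2; exact absurd b2 (by decide)
    · exact Or.inr fun r => by fin_cases r <;> assumption
  rcases hall with e | e
  · refine Or.inl (Subtype.ext (Units.ext (Matrix.ext fun r c => ?_)))
    show mx g r c = (1 : Matrix (Fin 6) (Fin 6) K3) r c
    rw [hs c r, e c]; simp [Matrix.one_apply]
  · refine Or.inr (Matrix.ext fun r c => ?_)
    rw [hs c r, e c]
    by_cases hrc : r = c <;> simp [hrc]

/-- The change of coordinates to the form of minus type. -/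
def toSq : ((Fin 2 ⊕ Fin 2) ⊕ Fin 2 → K3) →ₗ[K3] V6 where
  toFun t := ![t (.inr 0), t (.inr 1), -(t (.inl (.inl 0)) + t (.inl (.inr 0))),
    -(t (.inl (.inl 1)) + t (.inl (.inr 1))),
    -(t (.inl (.inl 0)) - t (.inl (.inr 0))) + -(t (.inl (.inl 1)) - t (.inl (.inr 1))),
    -(t (.inl (.inl 0)) - t (.inl (.inr 0))) - -(t (.inl (.inl 1)) - t (.inl (.inr 1)))]
  map_add' x y := by funext i; fin_cases i <;> simp <;> ring
  map_smul' c x := by funext i; fin_cases i <;> simp <;> ring

theorem minus_all : ∀ a b c d e f : K3,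
    e * e + f * f + -(a + c) * -(a + c) + -(b + d) * -(b + d) + (-(a - c) + -(b - d)) * (-(a - c) + -(b - d)) +
      (-(a - c) - -(b - d)) * (-(a - c) - -(b - d)) = a * c + b * d + (e * e + f * f) := by decide +kernel

theorem toSq_bij : Function.Bijective toSq := by
  refine (Fintype.bijective_iff_injective_and_card _).2 ⟨fun x y e => ?_, by simp⟩
  have h : ∀ a b c d a' b' c' d' : K3, -(a + c) = -(a' + c') → -(b + d) = -(b' + d') →
      -(a - c) + -(b - d) = -(a' - c') + -(b' - d') → -(a - c) - -(b - d) = -(a' - c') - -(b' - d') →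
      a = a' ∧ b = b' ∧ c = c' ∧ d = d' := by decide +kernel
  have e0 := congrFun e 0; have e1 := congrFun e 1; have e2 := congrFun e 2
  have e3 := congrFun e 3; have e4 := congrFun e 4; have e5 := congrFun e 5
  simp only [toSq, LinearMap.coe_mk, AddHom.coe_mk, Matrix.cons_val] at e0 e1 e2 e3 e4 e5
  obtain ⟨h1, h2, h3, h4⟩ := h _ _ _ _ _ _ _ _ e2 e3 e4 e5
  funext i
  rcases i with (i | i) | i <;> fin_cases i <;> assumption

theorem aniso_minus : ∀ z₁ z₂ : K3, z₁ ^ 2 + 0 * z₁ * z₂ + 1 * z₂ ^ 2 = 0 → z₁ = 0 ∧ z₂ = 0 := by decide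

theorem minus_iso : Nonempty (Cfsg.isometryGroup K3 (⇑Q6s) ≃* Cfsg.isometryGroup K3 (Cfsg.quadFormMinus 2 K3 0 1)) := by
  set φ := LinearEquiv.ofBijective toSq toSq_bij with hφ
  set Q' : QuadraticForm K3 ((Fin 2 ⊕ Fin 2) ⊕ Fin 2 → K3) := Q6s.comp φ.toLinearMap with hQ'
  have e : (⇑Q' : ((Fin 2 ⊕ Fin 2) ⊕ Fin 2 → K3) → K3) = Cfsg.quadFormMinus 2 K3 0 1 := funext fun v => by
    show Q6s (toSq v) = _
    rw [q6_apply]
    simp only [sq6, toSq, LinearMap.coe_mk, AddHom.coe_mk, Matrix.cons_val]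
    rw [Cfsg.quadFormMinus, Fin.sum_univ_two, minus_all]
    ring
  obtain ⟨i⟩ := Cfsg.Lib.OrthSylowTwo.exists_equiv Q6s Q' φ fun x => rfl
  exact ⟨i.symm.trans (MulEquiv.subgroupCongr (by rw [e]))⟩

/-- The derived group modulo its centre is the unitary group in dimension four over nine elements. -/
theorem omega_psu : ∃ (K : Type) (_ : Field K) (_ : Fintype K), Fintype.card K = 9 ∧
    Nat.card (Cfsg.PSU 4 K 3) = 3265920 ∧
    Nonempty (↥(Cfsg.Omega K3 (⇑Q6s)) ⧸ Subgroup.center ↥(Cfsg.Omega K3 (⇑Q6s)) ≃* Cfsg.PSU 4 K 3) := by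
  have : Fact (Nat.Prime 3) := ⟨by norm_num⟩
  have : Fintype (GaloisField 3 2) := Fintype.ofFinite _
  have hK : Fintype.card (GaloisField 3 2) = 3 ^ 2 := by
    rw [← Nat.card_eq_fintype_card, GaloisField.card 3 2 (by norm_num)]
  refine ⟨GaloisField 3 2, inferInstance, inferInstance, by rw [hK]; norm_num, ?_, ?_⟩
  · have h := Cfsg.Agent.S0280.result hK 4 (by norm_num)
    norm_num [Finset.prod_range_succ, Nat.even_iff, -Nat.card_eq_fintype_card] at h
    omega
  · obtain ⟨i⟩ := minus_iso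
    obtain ⟨u⟩ := LowRank.minus_six_iso (F := K3) (q := 3) (ZMod.card 3) hK 0 1 aniso_minus
    have hmap : (Cfsg.Omega K3 (⇑Q6s)).map i.toMonoidHom = Cfsg.Omega K3 (Cfsg.quadFormMinus 2 K3 0 1) := by
      show (commutator _).map i.toMonoidHom = commutator _
      rw [commutator_def, Subgroup.map_commutator, Subgroup.map_top_of_surjective i.toMonoidHom i.surjective,
        ← commutator_def]
    let j := (i.subgroupMap (Cfsg.Omega K3 (⇑Q6s))).trans (MulEquiv.subgroupCongr hmap)
    refine ⟨(QuotientGroup.congr _ _ j ?_).trans u⟩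
    ext y
    obtain ⟨x, rfl⟩ := j.surjective y
    constructor
    · rintro ⟨x', hx', e⟩
      obtain rfl : x' = x := j.injective e
      refine Subgroup.mem_center_iff.2 fun g => ?_
      obtain ⟨g, rfl⟩ := j.surjective g
      rw [← map_mul, ← map_mul, Subgroup.mem_center_iff.1 hx' g]
    · intro h
      refine ⟨x, Subgroup.mem_center_iff.2 fun g => j.injective ?_, rfl⟩
      rw [map_mul, map_mul]
      exact Subgroup.mem_center_iff.1 h _

end Cfsg.Lib.FiFour.Quad
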