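import Cfsg.Agent.FiFour.Quad.Members
import Cfsg.Agent.FiFour.TranspType
import Cfsg.Agent.LargeExtra.Coprime

/-!
The order of the centraliser of the product of four letters, the subgroup generated by the products of two members
of one quad, and the kernel of the action on the quads.
-/

set_option autoImplicit false
set_option maxRecDepth 100000
set_option linter.unusedSectionVars false

namespace Cfsg.Lib.FiFour.Quad

open Cfsg Subgroup Cfsg.Lib.CosetCert Cfsg.Lib.ThreeTr

attribute [local irreducible] rowF sevF lonF blkMask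

theorem hm : Cfsg.Lib.ThreeTr.M24 transp := transp_type

/-- The action on the quads. -/
noncomputable def sg : Cz →* Equiv.Perm (Fin 126) := sigma hm

theorem range_sg : sg.range = autQ := range_sigma hm

instance : Finite Gm := finite_group

/-- Counting a group by a surjection with cosets as fibres. -/
theorem card_of_map {G X : Type*} [Group G] [Finite G] (K : Subgroup G) (f : G → X)
    (hf : ∀ a b, f a = f b ↔ a⁻¹ * b ∈ K) (hs : Function.Surjective f) :
    Nat.card G = Nat.card X * Nat.card K := by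
  let F : G ⧸ K → X := Quotient.lift f fun a b e => (hf a b).2 (QuotientGroup.leftRel_apply.1 e)
  have hF : Function.Bijective F := by
    refine ⟨?_, fun x => ?_⟩
    · rintro ⟨a⟩ ⟨b⟩ e
      exact QuotientGroup.eq.2 ((hf a b).1 e)
    · obtain ⟨a, rfl⟩ := hs x
      exact ⟨QuotientGroup.mk a, rfl⟩
  rw [Subgroup.card_eq_card_quotient_mul_card_subgroup K, Nat.card_congr (Equiv.ofBijective F hF)]

theorem conj_inv_eq_iff {G : Type*} [Group G] (a b x : G) :
    a * x * a⁻¹ = b * x * b⁻¹ ↔ (a⁻¹ * b) * x = x * (a⁻¹ * b) := by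
  constructor
  · intro e
    calc a⁻¹ * b * x = a⁻¹ * (b * x * b⁻¹) * b := by group
      _ = x * (a⁻¹ * b) := by rw [← e]; group
  · intro e
    calc a * x * a⁻¹ = a * (x * (a⁻¹ * b)) * b⁻¹ := by group
      _ = b * x * b⁻¹ := by rw [← e]; group

/-- The elements fixing the four letters. -/
noncomputable def C4 : Subgroup Gm := centralizer {mem 0 0, mem 0 1, mem 0 2, mem 0 3}

theorem mem_C4 {g : Gm} : g ∈ C4 ↔ ∀ i, g * mem 0 i = mem 0 i * g := by
  rw [C4, mem_centralizer_iff]
  constructor
  · intro h i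
    exact (h _ (by fin_cases i <;> simp)).symm
  · intro h x hx
    simp only [Set.mem_insert_iff, Set.mem_singleton_iff] at hx
    rcases hx with rfl | rfl | rfl | rfl <;> exact (h _).symm

theorem card_C4 : Nat.card C4 = 106168320 := by
  have hl := (four_ok 0).1
  have h3 : CList transp [mem 0 0, mem 0 1, mem 0 2] :=
    ⟨hl.nodup.sublist (by simp [four]), fun w hw => hl.mem w (by simp [four] at hw ⊢; tauto),
      fun w hw v hv => hl.comm w (by simp [four] at hw ⊢; tauto) v (by simp [four] at hv ⊢; tauto)⟩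
  set H := centralizer (trioSet (mem 0 0) (mem 0 1) (mem 0 2)) with hH
  have hHg : ∀ g : H, ∀ x ∈ trioSet (mem 0 0) (mem 0 1) (mem 0 2), g.1 * x * g.1⁻¹ = x := fun g x hx => by
    rw [← mem_centralizer_iff.1 g.2 x hx, mul_inv_cancel_right]
  have hlast : mem 0 3 ∈ triSet transp (mem 0 0) (mem 0 1) (mem 0 2) :=
    ⟨⟨(hl.of_cons.2 _ (by simp)), hl.of_cons.1.of_cons.2 _ (by simp)⟩, hl.of_cons.1.of_cons.1.of_cons.2 _ (by simp)⟩
  have hcls := transp_class
  have hperm : ∀ (g : H) x, x ∈ triSet transp (mem 0 0) (mem 0 1) (mem 0 2) →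
      g.1 * x * g.1⁻¹ ∈ triSet transp (mem 0 0) (mem 0 1) (mem 0 2) := by
    intro g x hx
    have key : ∀ a ∈ trioSet (mem 0 0) (mem 0 1) (mem 0 2), x ∈ perp transp a → g.1 * x * g.1⁻¹ ∈ perp transp a :=
      fun a ha h => by
        have h' : g.1 * x * g.1⁻¹ ∈ (fun y => g.1 * y * g.1⁻¹) '' perp transp a := ⟨x, h, rfl⟩
        rw [conj_image_perp hcls, hHg g a ha] at h'
        exact h'
    exact ⟨⟨key _ (Or.inl rfl) hx.1.1, key _ (Or.inr (Or.inl rfl)) hx.1.2⟩, key _ (Or.inr (Or.inr rfl)) hx.2⟩
  have h := card_of_map (C4.subgroupOf H)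
    (fun g : H => (⟨g.1 * mem 0 3 * g.1⁻¹, hperm g _ hlast⟩ : triSet transp (mem 0 0) (mem 0 1) (mem 0 2)))
    (fun a b => by
      rw [Subtype.ext_iff, conj_inv_eq_iff, mem_subgroupOf, mem_C4]
      refine ⟨fun e i => ?_, fun e => by simpa using e 3⟩
      have key : ∀ x ∈ trioSet (mem 0 0) (mem 0 1) (mem 0 2), (a⁻¹ * b).1 * x = x * (a⁻¹ * b).1 :=
        fun x hx => (mem_centralizer_iff.1 (a⁻¹ * b).2 x hx).symm
      fin_cases i
      exacts [key _ (Or.inl rfl), key _ (Or.inr (Or.inl rfl)), key _ (Or.inr (Or.inr rfl)), by simpa using e])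
    (fun x => by
      have t0 : CList transp [x.1] := ⟨List.nodup_singleton _, by simp [x.2.1.1.1], by simp⟩
      have hl' : CList transp [mem 0 0, mem 0 1, mem 0 2, x.1] :=
        ((t0.cons (h3.mem _ (by simp)) (by simp [x.2.2])).cons (h3.mem _ (by simp))
          (by simp [x.2.1.2, h3.of_cons.1.of_cons.2 (mem 0 2) (by simp)])).cons (h3.mem _ (by simp))
          (by simp [x.2.1.1, h3.of_cons.2 (mem 0 1) (by simp), h3.of_cons.2 (mem 0 2) (by simp)])
      obtain ⟨g, hg⟩ := hm.listTrans _ _ hl hl' rfl le_rfl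
      simp only [four, List.map_cons, List.map_nil, List.cons.injEq, and_true] at hg
      obtain ⟨e0, e1, e2, e3⟩ := hg
      refine ⟨⟨g, ?_⟩, Subtype.ext e3.symm⟩
      rw [hH, mem_centralizer_iff]
      rintro y (rfl | rfl | rfl)
      · conv_lhs => rw [e0]
        group
      · conv_lhs => rw [e1]
        group
      · conv_lhs => rw [e2]
        group)
  have h693 : (triSet transp (mem 0 0) (mem 0 1) (mem 0 2)).ncard = 693 :=
    hm.solid.full.tower.tri_adj _ (h3.mem _ (by simp)) _ (h3.of_cons.2 _ (by simp)) _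
      ⟨h3.of_cons.2 _ (by simp), h3.of_cons.1.of_cons.2 _ (by simp)⟩
  have hle : C4 ≤ H := fun g hg => by
    rw [hH, mem_centralizer_iff]
    rintro y (rfl | rfl | rfl) <;> exact (mem_C4.1 hg _).symm
  rw [hH, hm.card_trio_centralizer h3, Nat.card_coe_set_eq, h693, ← hH,
    Nat.card_congr (subgroupOfEquivOfLe hle).toEquiv] at h
  omega

theorem smul_index (g : Cz) (i : Fin 4) : ∃ i', mem (sg g 0) i' = g.1 * mem 0 i * g.1⁻¹ := sig_spec hm g 0 i

/-- Where the first member goes in its quad. -/
noncomputable def posFun (g : Cz) (i : Fin 4) : Fin 4 := (smul_index g i).choose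

theorem pos_spec (g : Cz) (i : Fin 4) : mem (sg g 0) (posFun g i) = g.1 * mem 0 i * g.1⁻¹ := (smul_index g i).choose_spec

theorem pos_inj (g : Cz) : Function.Injective (posFun g) := fun a b e => by
  have h := pos_spec g a
  rw [e, pos_spec g b] at h
  exact (mem_inj (mul_left_cancel (mul_right_cancel h))).2.symm

theorem card_cz : Nat.card Cz = 321052999680 := by
  have hle : C4 ≤ Cz := fun g hg => mem_centralizer_singleton_iff.2 (by
    have h := mem_C4.1 hg
    rw [← (four_ok 0).2]
    exact (Commute.list_prod_right _ g fun x hx => by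
      obtain ⟨i, rfl⟩ := mem_four.1 hx
      exact h i).eq)
  have h := card_of_map (C4.subgroupOf Cz) (fun g : Cz => (sg g 0, (⟨posFun g, pos_inj g⟩ : Fin 4 ↪ Fin 4)))
    (fun a b => by
      rw [mem_subgroupOf, mem_C4]
      constructor
      · intro e i
        simp only [Prod.mk.injEq] at e
        have h1 := pos_spec a i
        rw [e.1, show posFun a i = posFun b i from congrFun (congrArg DFunLike.coe e.2) i, pos_spec b i] at h1
        exact (conj_inv_eq_iff _ _ _).1 h1.symm
      · intro e
        have h1 : ∀ i, mem (sg a 0) (posFun a i) = mem (sg b 0) (posFun b i) := fun i => by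
          rw [pos_spec, pos_spec]
          exact (conj_inv_eq_iff _ _ _).2 (e i)
        exact Prod.ext (mem_inj (h1 0)).1 (DFunLike.ext _ _ fun i => (mem_inj (h1 i)).2))
    (fun x => by
      obtain ⟨k, p⟩ := x
      let l : List Gm := [mem k (p 0), mem k (p 1), mem k (p 2), mem k (p 3)]
      have hperm : l.Perm (four k) := by
        have hL : [p 0, p 1, p 2, p 3].Perm [(0 : Fin 4), 1, 2, 3] := by
          refine (List.perm_ext_iff_of_nodup ?_ (by decide)).2 fun a => ?_
          · simp [p.injective.eq_iff]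
          · have hsurj := Finite.surjective_of_injective p.injective a
            obtain ⟨i, rfl⟩ := hsurj
            refine iff_of_true ?_ ((show ∀ b : Fin 4, b ∈ [(0 : Fin 4), 1, 2, 3] by decide) _)
            fin_cases i <;> simp
        exact hL.map (mem k)
      obtain ⟨hq, hqp⟩ := four_ok k
      have hl : CList transp l := ⟨hperm.nodup_iff.2 hq.nodup, fun w hw => hq.mem w (hperm.subset hw),
        fun w hw v hv => hq.comm w (hperm.subset hw) v (hperm.subset hv)⟩
      obtain ⟨g, hg⟩ := hm.listTrans (four 0) l (four_ok 0).1 hl rfl le_rfl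
      have hgz : g ∈ Cz := mem_centralizer_singleton_iff.2 (by
        have hp : l.prod = z0 := (hperm.prod_eq' (List.pairwise_iff_forall_sublist.2 fun {a b} hs =>
          hl.comm a (hs.subset (by simp)) b (hs.subset (by simp)))).trans hqp
        rw [hg, conj_list_prod, (four_ok 0).2] at hp
        exact mul_inv_eq_iff_eq_mul.1 hp)
      simp only [four, l, List.map_cons, List.map_nil, List.cons.injEq, and_true] at hg
      have hi : ∀ i, mem k (p i) = g * mem 0 i * g⁻¹ := fun i => by
        obtain ⟨e0, e1, e2, e3⟩ := hg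
        fin_cases i <;> assumption
      have hk : sg ⟨g, hgz⟩ 0 = k := sig_eq hm (i := 0) (hi 0)
      refine ⟨⟨g, hgz⟩, Prod.ext hk (DFunLike.ext _ _ fun i => ?_)⟩
      have := pos_spec ⟨g, hgz⟩ i
      rw [hk] at this
      exact (mem_inj (this.trans (hi i).symm)).2)
  rw [Nat.card_prod, Nat.card_fin, Nat.card_eq_fintype_card (α := Fin 4 ↪ Fin 4), Fintype.card_embedding_eq,
    Fintype.card_fin, Nat.card_congr (subgroupOfEquivOfLe hle).toEquiv, card_C4] at h
  rw [h]
  decide

theorem card_ker : Nat.card sg.ker = 24576 := by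
  have h := Subgroup.card_eq_card_quotient_mul_card_subgroup sg.ker
  rw [Nat.card_congr (QuotientGroup.quotientKerEquivRange sg).toEquiv, range_sg, card_autQ, card_cz] at h
  omega

/-- The product, in its centraliser. -/
noncomputable def zc : Cz := ⟨z0, mem_centralizer_singleton_iff.2 rfl⟩

/-- A member in the centraliser. -/
noncomputable def memC (k : Fin 126) (i : Fin 4) : Cz := ⟨mem k i, mem_centralizer_singleton_iff.2 (z_comm_mem k i).symm.eq⟩

/-- The product of two members of one quad. -/
noncomputable def pairEl (k : Fin 126) (i j : Fin 4) : Cz := memC k i * memC k j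

theorem zc_central (g : Cz) : Commute g zc := Subtype.ext (comm_cz g).eq

theorem quad_comm (k : Fin 126) (i j : Fin 4) : Commute (memC k i) (memC k j) :=
  Subtype.ext ((four_ok k).1.comm _ (mem_four.2 ⟨i, rfl⟩) _ (mem_four.2 ⟨j, rfl⟩)).eq

theorem memC_sq (k : Fin 126) (i : Fin 4) : memC k i * memC k i = 1 :=
  Subtype.ext (sq_eq_one transp_class.1 (mem_transp' k i))

theorem quad_prod (k : Fin 126) {a b c d : Fin 4} (h : [a, b, c, d].Nodup) :
    memC k a * memC k b * (memC k c * memC k d) = zc := by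
  have hperm : [a, b, c, d].Perm [(0 : Fin 4), 1, 2, 3] := by
    revert a b c d
    decide
  have hp : ([a, b, c, d].map (mem k)).prod = (([0, 1, 2, 3] : List (Fin 4)).map (mem k)).prod := by
    refine (hperm.map _).prod_eq' (List.pairwise_iff_forall_sublist.2 fun {x y} hs => ?_)
    have hx := hs.subset (show x ∈ [x, y] by simp)
    have hy := hs.subset (show y ∈ [x, y] by simp)
    obtain ⟨i, -, rfl⟩ := List.mem_map.1 hx
    obtain ⟨j, -, rfl⟩ := List.mem_map.1 hy
    exact (four_ok k).1.comm _ (mem_four.2 ⟨i, rfl⟩) _ (mem_four.2 ⟨j, rfl⟩)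
  refine Subtype.ext ?_
  show mem k a * mem k b * (mem k c * mem k d) = z0
  rw [← (four_ok k).2]
  simpa [four, mul_assoc] using hp

theorem conj_memC (g : Cz) (k : Fin 126) (i : Fin 4) : ∃ i', memC (sg g k) i' = g * memC k i * g⁻¹ := by
  obtain ⟨i', e⟩ := sig_spec hm g k i
  exact ⟨i', Subtype.ext e⟩

theorem conj_pair (g : Cz) (k : Fin 126) (i j : Fin 4) : ∃ i' j', pairEl (sg g k) i' j' = g * pairEl k i j * g⁻¹ := by
  obtain ⟨i', e⟩ := conj_memC g k i
  obtain ⟨j', f⟩ := conj_memC g k j
  refine ⟨i', j', ?_⟩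
  rw [pairEl, pairEl, e, f]
  group

/-- The products of two members of one quad generate this subgroup. -/
noncomputable def QS : Subgroup Cz := closure {x | ∃ k i j, pairEl k i j = x}

theorem pair_mem (k : Fin 126) (i j : Fin 4) : pairEl k i j ∈ QS := subset_closure ⟨k, i, j, rfl⟩

instance : QS.Normal := ⟨fun n hn g => by
  induction hn using closure_induction with
  | mem x hx =>
    obtain ⟨k, i, j, rfl⟩ := hx
    obtain ⟨i', j', e⟩ := conj_pair g k i j
    exact e ▸ pair_mem _ _ _
  | one => simp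
  | mul a b _ _ ha hb =>
    rw [show g * (a * b) * g⁻¹ = (g * a * g⁻¹) * (g * b * g⁻¹) by group]
    exact mul_mem ha hb
  | inv a _ ha =>
    rw [show g * a⁻¹ * g⁻¹ = (g * a * g⁻¹)⁻¹ by group]
    exact inv_mem ha⟩

/-- A word carrying the first quad to another one. -/
def pathW : ℕ → ℕ → List ℕ
  | 0, _ => []
  | n + 1, k => if k = 0 then [] else gw (par k).1 ++ pathW n (par k).2

theorem quad_conj (k : Fin 126) : ∃ g : Cz, (∀ n, k.val ≤ n → g.1 = wval im (pathW n k.val)) ∧
    ∀ i, memC k i = g * memC 0 i * g⁻¹ := by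
  induction hn : k.val using Nat.strong_induction_on generalizing k with
  | _ m ih =>
    by_cases hk : k.val = 0
    · obtain rfl : k = 0 := Fin.ext hk
      refine ⟨1, fun n _ => ?_, fun i => by simp⟩
      rcases n with _ | n <;> simp [pathW, ← hn, wval]
    · obtain ⟨j, hj, p, hp, hpar, hc⟩ := mem_tree hk
      obtain ⟨g, hgw, hg⟩ := ih p.val (hn ▸ hp) p rfl
      refine ⟨⟨gEl j, mem_centralizer_singleton_iff.2 (gEl_comm hj).eq⟩ * g, fun n hle => ?_, fun i => ?_⟩
      · obtain ⟨n, rfl⟩ : ∃ n', n = n' + 1 := ⟨n - 1, by omega⟩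
        rw [pathW, if_neg (by omega), ← hn, hpar, wval_append, Subgroup.coe_mul, hgw n (by omega)]
        rfl
      · rw [mul_inv_rev, ← mul_assoc, mul_assoc _ g, mul_assoc _ _ g⁻¹, ← hg]
        exact Subtype.ext (hc i).symm

theorem base_refl : ((List.range 4).all fun i => (List.range 126).all fun k => (List.range 4).any fun t =>
    moves [2 * i] (pv (4 * k)) == pv (4 * (cls (reflF 0 (vv (Fin.ofNat 126 k)))).val + t)) = true := by decide +kernel

theorem sg_mem_zero (i : Fin 4) : sg (memC 0 i) = rho (refOf 0) := by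
  refine Equiv.ext fun k => ?_
  have h := List.all_eq_true.1 (List.all_eq_true.1 base_refl i.val (List.mem_range.2 i.isLt)) k.val
    (List.mem_range.2 k.isLt)
  rw [List.any_eq_true] at h
  obtain ⟨t, ht, he⟩ := h
  rw [beq_iff_eq, Fin.ofNat_val_eq_self] at he
  refine sigma_of_smul hm (i := 0) (i' := ⟨t, List.mem_range.1 ht⟩) (Fin.ext ?_)
  rw [refOf_rho]
  obtain ⟨e0, e1, e2, e3⟩ := mem_zero
  have hi : mem 0 i = im (2 * i.val) := by fin_cases i <;> assumption
  show (mem 0 i • P k 0 : Pts).val = _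
  rw [hi, ← wval_single im, smul_moves (by simp; omega)]
  simpa [P] using he

theorem QS_le_ker : QS ≤ sg.ker := by
  refine (closure_le _).2 ?_
  rintro _ ⟨k, i, j, rfl⟩
  obtain ⟨g, -, hg⟩ := quad_conj k
  show sg (memC k i * memC k j) = 1
  rw [hg, hg, map_mul, map_mul, map_mul, map_mul, map_mul, sg_mem_zero, sg_mem_zero, ← sg_mem_zero i, map_inv]
  rw [show ∀ a b : Equiv.Perm (Fin 126), b * a * b⁻¹ * (b * a * b⁻¹) = b * (a * a) * b⁻¹ from fun a b => by group,
    ← map_mul sg (memC 0 i), memC_sq, map_one, mul_one, mul_inv_cancel]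

end Cfsg.Lib.FiFour.Quad
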