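import Cfsg.Agent.FiFour.Quad.Structure
import Cfsg.Agent.Components.Local
import Cfsg.Agent.Components.GenFitting
import Cfsg.Agent.S0283

/-!
The even part of the centraliser of a product of four commuting members in the group of type M(24).
-/

set_option autoImplicit false
set_option maxRecDepth 100000
set_option linter.unusedSectionVars false

namespace Cfsg.Lib.FiFour.Quad

open Cfsg Subgroup Cfsg.Lib.CosetCert Cfsg.Lib.ThreeTr Cfsg.Lib.Components
open scoped commutatorElement

attribute [local irreducible] rowF sevF lonF blkMask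

/-- The shape of the centraliser. -/
def Shape (C : Type*) [Group C] : Prop :=
  ∃ (Q : Subgroup C) (_ : Q.Normal), Cfsg.generalizedFittingSubgroup C = Q ∧ Cfsg.IsExtraspecial 2 ↥Q ∧
    Nat.card Q = 2 ^ 13 ∧ ∃ (N M : Subgroup C) (_ : N.Normal) (_ : M.Normal), Q ≤ N ∧ N ≤ M ∧
      Nat.card N = 3 * Nat.card Q ∧ (∃ (K : Type) (_ : Field K) (_ : Fintype K), Fintype.card K = 9 ∧
        Nonempty (↥M ⧸ N.subgroupOf M ≃* Cfsg.PSU 4 K 3)) ∧ M.index = 2

theorem extraspecial_congr {A B : Type*} [Group A] [Group B] (f : A ≃* B) (h : IsExtraspecial 2 A) :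
    IsExtraspecial 2 B := by
  obtain ⟨⟨hp, hf, hd⟩, hc⟩ := h
  have hcen : (center A).map f.toMonoidHom = center B := by
    ext x
    obtain ⟨a, rfl⟩ := f.surjective x
    rw [show (f a ∈ (center A).map f.toMonoidHom) ↔ a ∈ center A from
      Subgroup.mem_map_iff_mem (f := f.toMonoidHom) f.injective, mem_center_iff, mem_center_iff]
    refine ⟨fun h y => ?_, fun h y => f.injective ?_⟩
    · obtain ⟨b, rfl⟩ := f.surjective y
      rw [← map_mul, ← map_mul, h b]
    · rw [map_mul, map_mul, h (f y)]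
  have hder : (_root_.commutator A).map f.toMonoidHom = _root_.commutator B := by
    rw [commutator_def, commutator_def, Subgroup.map_commutator, Subgroup.map_top_of_surjective f.toMonoidHom f.surjective]
  have hfr : (frattini A).map f.toMonoidHom = frattini B := by
    refine le_antisymm (Subgroup.map_le_iff_le_comap.2 (frattini_le_comap_frattini_of_surjective f.surjective)) ?_
    have h := frattini_le_comap_frattini_of_surjective (φ := f.symm.toMonoidHom) f.symm.surjective
    intro x hx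
    exact ⟨f.symm x, h hx, f.apply_symm_apply x⟩
  refine ⟨⟨hp.of_equiv f, by rw [← hfr, hf, hcen], by rw [← hder, hd, hcen]⟩, ?_⟩
  rw [← hcen, ← hc]
  exact (Nat.card_congr (f.subgroupMap (center A)).toEquiv).symm

theorem shape_congr {C C' : Type*} [Group C] [Group C'] [Finite C] (e : C ≃* C') (h : Shape C) : Shape C' := by
  obtain ⟨Q, hQn, hF, hex, hcard, N, M, hNn, hMn, h1, h2, h3, ⟨K, _, _, hK, ⟨u⟩⟩, h5⟩ := h
  have hc : ∀ H : Subgroup C, Nat.card (H.map e.toMonoidHom) = Nat.card H := fun H =>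
    (Nat.card_congr (e.subgroupMap H).toEquiv).symm
  have := hNn.map e.toMonoidHom e.surjective
  have hsub : ((N.subgroupOf M).map (e.subgroupMap M).toMonoidHom) = (N.map e.toMonoidHom).subgroupOf (M.map e.toMonoidHom) := by
    ext x
    obtain ⟨y, rfl⟩ := (e.subgroupMap M).surjective x
    rw [mem_map_equiv, MulEquiv.symm_apply_apply]
    exact (Subgroup.mem_map_iff_mem (f := e.toMonoidHom) e.injective).symm
  have hsn : ((N.map e.toMonoidHom).subgroupOf (M.map e.toMonoidHom)).Normal := this.subgroupOf _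
  refine ⟨Q.map e.toMonoidHom, hQn.map e.toMonoidHom e.surjective, ?_, extraspecial_congr (e.subgroupMap Q) hex,
    (hc Q).trans hcard, N.map e.toMonoidHom, M.map e.toMonoidHom, this, hMn.map e.toMonoidHom e.surjective,
    Subgroup.map_mono h1, Subgroup.map_mono h2, by rw [hc, hc, h3], ⟨K, inferInstance, inferInstance, hK, ?_⟩, ?_⟩
  · rw [← hF, genFitting_map_equiv]
  · exact ⟨(@QuotientGroup.congr _ _ _ _ (N.subgroupOf M) ((N.map e.toMonoidHom).subgroupOf (M.map e.toMonoidHom)) _
      hsn (e.subgroupMap M) hsub).symm.trans u⟩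
  · exact (Subgroup.index_map_equiv M e).trans h5

/-- The even part of the centraliser. -/
noncomputable abbrev Ce : Subgroup Cz := chi.ker.subgroupOf Cz

theorem chi_mem (k : Fin 126) (i : Fin 4) : chi (mem k i) = -1 := by
  obtain ⟨u, hu⟩ := mem_transp.1 (mem_transp' k i)
  rw [← hu, map_mul, map_mul, map_inv, chi_im (by norm_num)]
  simp

theorem card_Ce : Nat.card Ce = 160526499840 := by
  let f : Cz →* ℤˣ := chi.comp Cz.subtype
  have hs : Function.Surjective f := fun u => by
    rcases Int.units_eq_one_or u with rfl | rfl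
    · exact ⟨1, map_one f⟩
    · exact ⟨memC 0 0, chi_mem 0 0⟩
  have h := Subgroup.card_eq_card_quotient_mul_card_subgroup f.ker
  rw [Nat.card_congr (QuotientGroup.quotientKerEquivOfSurjective f hs).toEquiv, card_cz,
    show Nat.card ℤˣ = 2 by rw [Nat.card_eq_fintype_card]; rfl] at h
  have e : f.ker = Ce := rfl
  rw [e] at h
  omega

/-- The derived image. -/
noncomputable abbrev Wm : Subgroup (Equiv.Perm (Fin 126)) := (Cfsg.Omega K3 (⇑Q6s)).map rho

theorem W_le : Wm ≤ Ce.map sg := by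
  have h1 : Wm ≤ Subgroup.map sg (⁅(⊤ : Subgroup Cz), (⊤ : Subgroup Cz)⁆ : Subgroup Cz) := by
    rw [Subgroup.map_commutator, ← MonoidHom.range_eq_map, range_sg, ← range_rho, MonoidHom.range_eq_map,
      ← Subgroup.map_commutator]
    exact le_of_eq rfl
  refine h1.trans (Subgroup.map_mono (Subgroup.commutator_le.2 fun a _ b _ => ?_))
  show chi (⁅a, b⁆ : Cz).1 = 1
  have : chi (⁅a, b⁆ : Cz).1 = ⁅chi a.1, chi b.1⁆ := map_commutatorElement (chi.comp Cz.subtype) a b
  rw [this]
  exact commutatorElement_eq_one_iff_commute.2 (Commute.all _ _)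

theorem W_normal {g : Equiv.Perm (Fin 126)} (hg : g ∈ autQ) {w : Equiv.Perm (Fin 126)} (hw : w ∈ Wm) :
    g * w * g⁻¹ ∈ Wm := by
  rw [← range_rho] at hg
  obtain ⟨h, rfl⟩ := hg
  obtain ⟨x, hx, rfl⟩ := hw
  exact ⟨h * x * h⁻¹, (inferInstance : (Cfsg.Omega K3 (⇑Q6s)).Normal).conj_mem x hx h, by
    rw [map_mul, map_mul, map_inv]⟩

theorem W_simple : IsSimpleGroup Wm ∧ Nat.card Wm = 3265920 := by
  obtain ⟨K, _, _, hK, hcard, ⟨u⟩⟩ := omega_equiv
  have := Cfsg.Agent.S0283.result (F := K) (q := 3) (by rw [hK]; norm_num) 4 (by norm_num) (by norm_num)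
  have : Nontrivial Wm := u.toEquiv.nontrivial
  exact ⟨IsSimpleGroup.isSimpleGroup_of_surjective u.symm.toMonoidHom u.symm.surjective, hcard⟩

theorem centralizer_Qe : centralizer ((QS.subgroupOf Ce : Subgroup Ce) : Set Ce) ≤ QS.subgroupOf Ce := fun g hg => by
  have hg' : ∀ q ∈ QS, Commute g.1 q := fun q hq => by
    have hqc : q ∈ Ce := ker_even (QS_le_ker hq)
    exact (congrArg Subtype.val (mem_centralizer_iff.1 hg ⟨q, hqc⟩ hq)).symm
  rw [mem_subgroupOf]
  rcases centralizer_QS hg' with e | e <;> rw [e]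
  · exact one_mem _
  · exact zc_mem

theorem pCore_eq : pCore 2 Ce = QS.subgroupOf Ce := by
  have := Fact.mk Nat.prime_two
  refine le_antisymm ?_ (Cfsg.Lib.Components.le_pCore (QS_two.comap_subtype (K := Ce)))
  intro x hx
  have hP := (isPGroup_pCore (G := ↥Ce) 2)
  let f : Ce →* Equiv.Perm (Fin 126) := sg.comp Ce.subtype
  have hxk : f x = 1 := by
    obtain ⟨hs, hc⟩ := W_simple
    refine omega_centralizer fun w hw => ?_
    have hnorm : ∀ a ∈ (pCore 2 Ce).map f, ∀ v ∈ Wm, v * a * v⁻¹ ∈ (pCore 2 Ce).map f := by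
      rintro _ ⟨a, ha, rfl⟩ v hv
      obtain ⟨y, hy, rfl⟩ := W_le hv
      exact ⟨⟨y, hy⟩ * a * ⟨y, hy⟩⁻¹, (inferInstance : (pCore 2 ↥Ce).Normal).conj_mem a ha _, by
        simp [f]⟩
    have hn : (((pCore 2 Ce).map f).subgroupOf Wm).Normal := ⟨fun a ha v => by
      rw [mem_subgroupOf] at ha ⊢
      exact hnorm _ ha _ v.2⟩
    have hbot : ((pCore 2 Ce).map f).subgroupOf Wm = ⊥ := by
      refine (hn.eq_bot_or_eq_top).resolve_right fun e => ?_
      obtain ⟨n, hn'⟩ := (IsPGroup.iff_card (p := 2)).1 ((hP.map f).comap_subtype (K := Wm))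
      rw [show Subgroup.comap Wm.subtype ((pCore 2 Ce).map f) = ((pCore 2 Ce).map f).subgroupOf Wm from rfl, e,
        Subgroup.card_top, hc] at hn'
      have : 3 ∣ 2 ^ n := hn' ▸ ⟨1088640, rfl⟩
      exact absurd (Nat.le_of_dvd (by norm_num) (Nat.prime_three.dvd_of_dvd_pow this)) (by norm_num)
    have hmem : f x * w * (f x)⁻¹ * w⁻¹ ∈ ((pCore 2 Ce).map f) ⊓ Wm := by
      refine ⟨?_, Wm.mul_mem (W_normal (range_sg ▸ ⟨x.1, rfl⟩) hw) (Wm.inv_mem hw)⟩
      rw [mul_assoc (f x * w) (f x)⁻¹ w⁻¹, mul_assoc (f x)]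
      refine mul_mem ⟨x, hx, rfl⟩ ?_
      rw [← mul_assoc w]
      exact hnorm _ (inv_mem ⟨x, hx, rfl⟩) w hw
    have h1 : (⟨_, hmem.2⟩ : Wm) ∈ ((pCore 2 Ce).map f).subgroupOf Wm := hmem.1
    rw [hbot, mem_bot] at h1
    exact commutatorElement_eq_one_iff_commute.1 (by rw [commutatorElement_def]; exact congrArg Subtype.val h1)
  rw [mem_subgroupOf]
  obtain ⟨n, hn⟩ := hP ⟨x, hx⟩
  have hx2 : (x.1) ^ 2 ^ n = 1 := by
    have := congrArg Subtype.val (congrArg Subtype.val hn)
    simpa using this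
  obtain ⟨m, -, hm'⟩ := (Nat.dvd_prime_pow Nat.prime_two).1 (orderOf_dvd_of_pow_eq_one hx2)
  exact ker_two_part (MonoidHom.mem_ker.2 hxk) hm'

theorem genFitting_Ce : generalizedFittingSubgroup Ce = QS.subgroupOf Ce := by
  have := Fact.mk Nat.prime_two
  rw [← pCore_eq, genFitting_eq_pCore_iff]
  have hC := centralizer_Qe
  rw [← pCore_eq] at hC
  constructor
  · have h := (le_inf ((commutator_eq_bot_iff_le_centralizer.1 pPrimeCore_commute_pCore).trans hC) le_rfl :
      pPrimeCore 2 ↥Ce ≤ pCore 2 ↥Ce ⊓ pPrimeCore 2 ↥Ce)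
    rwa [coprime_pGroup_disjoint (isPGroup_pCore 2) (coprime_card_pPrimeCore 2), le_bot_iff] at h
  · have hl : layer ↥Ce ≤ pCore 2 ↥Ce := by
      refine le_trans (le_trans (commutator_eq_bot_iff_le_centralizer.1 layer_commute_fitting) ?_) hC
      exact centralizer_le (le_fitting (isPGroup_pCore 2).isNilpotent)
    rw [← le_bot_iff]
    refine sSup_le fun L hL => ?_
    have := ((isPGroup_pCore (G := ↥Ce) 2).to_le ((comp_le_layer hL).trans hl)).isNilpotent
    exact (comp_not_isSolvable hL inferInstance).elim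

theorem shape_Ce : Shape Ce := by
  obtain ⟨K, _, _, hK, hcard, ⟨u⟩⟩ := omega_equiv
  let f : Ce →* Equiv.Perm (Fin 126) := sg.comp Ce.subtype
  have hQn : (QS.subgroupOf Ce).Normal := inferInstance
  have hQc : Nat.card (QS.subgroupOf Ce) = 8192 := by
    rw [Nat.card_congr (subgroupOfEquivOfLe fun q hq => ker_even (QS_le_ker hq)).toEquiv, QS_facts.1]
  have hNc : Nat.card f.ker = 24576 := by
    have e : f.ker = sg.ker.subgroupOf Ce := rfl
    rw [e, Nat.card_congr (subgroupOfEquivOfLe fun q hq => ker_even hq).toEquiv, card_ker]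
  let M := Wm.comap f
  have hMn : M.Normal := ⟨fun m hm' g => by
    show f (g * m * g⁻¹) ∈ Wm
    rw [map_mul, map_mul, map_inv]
    exact W_normal (range_sg ▸ ⟨g.1, rfl⟩) hm'⟩
  let r := f.subgroupComap Wm
  have hr : Function.Surjective r := fun w => by
    obtain ⟨y, hy, e⟩ := W_le w.2
    exact ⟨⟨⟨y, hy⟩, show sg y ∈ Wm from e ▸ w.2⟩, Subtype.ext e⟩
  have hker : r.ker = f.ker.subgroupOf M := by
    ext m
    exact ⟨fun h => congrArg Subtype.val h, fun h => Subtype.ext h⟩
  have hMc : Nat.card M = 3265920 * 24576 := by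
    rw [Subgroup.card_eq_card_quotient_mul_card_subgroup r.ker,
      Nat.card_congr (QuotientGroup.quotientKerEquivOfSurjective r hr).toEquiv, hcard, hker,
      Nat.card_congr (subgroupOfEquivOfLe fun x hx => show f x ∈ Wm by rw [MonoidHom.mem_ker.1 hx]; exact one_mem _).toEquiv,
      hNc]
  have hfn : (f.ker.subgroupOf M).Normal := hker ▸ MonoidHom.normal_ker r
  refine ⟨_, hQn, genFitting_Ce, extraspecial_congr (subgroupOfEquivOfLe fun q hq => ker_even (QS_le_ker hq)).symm
    QS_extraspecial, hQc.trans (by norm_num), f.ker, M, inferInstance, hMn, fun q hq => QS_le_ker hq,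
    fun x hx => show f x ∈ Wm by rw [MonoidHom.mem_ker.1 hx]; exact one_mem _, by rw [hNc, hQc],
    ⟨K, inferInstance, inferInstance, hK, ⟨(QuotientGroup.quotientMulEquivOfEq hker.symm).trans
      ((QuotientGroup.quotientKerEquivOfSurjective r hr).trans u)⟩⟩, ?_⟩
  have h := M.card_mul_index
  rw [hMc, card_Ce] at h
  omega

end Cfsg.Lib.FiFour.Quad
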