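import Cfsg.Agent.FiFour.Quad.Perms
import Cfsg.Agent.FiFour.Unique
import Cfsg.Agent.ThreeTransposition.M24Count.TripleCentralizer
import Cfsg.Agent.ThreeTransposition.M24Count.FourProduct

/-!
A product of four commuting letters in the model of type M(24): its 504 members fall into 126 sets of four with
this product, and its centraliser permutes the sets.
-/

set_option autoImplicit false
set_option maxRecDepth 100000
set_option linter.unusedSectionVars false

namespace Cfsg.Lib.FiFour.Quad

open Cfsg Cfsg.Lib.CosetCert Cfsg.Lib.ThreeTr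

attribute [local irreducible] rowF sevF lonF blkMask

/-- The group. -/
abbrev Gm := Cfsg.Spor.Fi24

/-- Four commuting letters. -/
def zWord : List ℕ := [0, 2, 4, 6]

/-- Their product. -/
noncomputable def z0 : Gm := wval im zWord

/-- One of the ten words. -/
def gw (j : ℕ) : List ℕ := qWords.getD j []

/-- One of the ten elements. -/
noncomputable def gEl (j : ℕ) : Gm := wval im (gw j)

/-- The value of a point. -/
def pv (m : ℕ) : ℕ := qPts.getD m 0

theorem gw_letters : ∀ j : Fin 10, ∀ l ∈ gw j.val, l < 12 := by decide +kernel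

theorem pv_lt : ∀ m : Fin 504, pv m.val < 306936 := by decide +kernel

theorem pts_nodup : qPts.Nodup ∧ qPts.length = 504 := by decide +kernel

theorem z_fix : ((List.range 504).all fun m => moves zWord.reverse (pv m) == pv m) = true := by decide +kernel

theorem g_fix : ((List.range 10).all fun j => fixTest (zWord ++ gw j ++ zWord.reverse ++ (gw j).reverse)) = true := by
  decide +kernel

theorem base_pts : pv 0 = letterPoint 0 ∧ pv 1 = letterPoint 2 ∧ pv 2 = letterPoint 4 ∧ pv 3 = letterPoint 6 := by
  decide +kernel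

theorem z_words : lab 0 2 = 2 ∧ lab 0 4 = 2 ∧ lab 0 6 = 2 ∧ lab 2 4 = 2 ∧ lab 2 6 = 2 ∧ lab 4 6 = 2 := by
  decide +kernel

/-- The tree entry of a quad. -/
def par (k : ℕ) : ℕ × ℕ := qTree.getD k (0, 0)

theorem tree_ok : ((List.range 126).all fun k => k == 0 ||
    (decide ((par k).1 < 10) && decide ((par k).2 < k) &&
      (List.range 4).all fun i => moves (gw (par k).1).reverse (pv (4 * (par k).2 + i)) == pv (4 * k + i))) = true := by
  decide +kernel

/-- The point of a member. -/
def P (k : Fin 126) (i : Fin 4) : Pts := ⟨pv (4 * k.val + i.val), pv_lt ⟨4 * k.val + i.val, by omega⟩⟩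

/-- A member. -/
noncomputable def mem (k : Fin 126) (i : Fin 4) : Gm := (tied_point (P k i)).choose

theorem tied (k : Fin 126) (i : Fin 4) : Tied (mem k i) (P k i) := (tied_point (P k i)).choose_spec

theorem P_inj {k k' : Fin 126} {i i' : Fin 4} (h : P k i = P k' i') : k = k' ∧ i = i' := by
  have h : pv (4 * k.val + i.val) = pv (4 * k'.val + i'.val) := congrArg Fin.val h
  have h1 : 4 * k.val + i.val < qPts.length := by rw [pts_nodup.2]; omega
  have h2 : 4 * k'.val + i'.val < qPts.length := by rw [pts_nodup.2]; omega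
  rw [pv, pv, List.getD_eq_getElem _ _ h1, List.getD_eq_getElem _ _ h2, pts_nodup.1.getElem_inj_iff] at h
  exact ⟨Fin.ext (by omega), Fin.ext (by omega)⟩

theorem mem_inj {k k' : Fin 126} {i i' : Fin 4} (h : mem k i = mem k' i') : k = k' ∧ i = i' :=
  P_inj ((tied k i).point (h ▸ tied k' i'))

theorem mem_transp' (k : Fin 126) (i : Fin 4) : mem k i ∈ transp := (tied k i).mem

theorem z_smul (k : Fin 126) (i : Fin 4) : z0 • P k i = P k i := Fin.ext (by
  rw [z0, smul_moves (by decide)]
  have := List.all_eq_true.1 z_fix (4 * k.val + i.val) (List.mem_range.2 (by omega))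
  exact beq_iff_eq.1 this)

theorem z_comm_mem (k : Fin 126) (i : Fin 4) : Commute z0 (mem k i) := (tied k i).commute (z_smul k i)

theorem gEl_smul {j : ℕ} (hj : j < 10) (p : Pts) : (gEl j • p : Pts).val = moves (gw j).reverse p.val :=
  smul_moves (gw_letters ⟨j, hj⟩) p

theorem gEl_comm {j : ℕ} (hj : j < 10) : Commute (gEl j) z0 := by
  have hw : ∀ l ∈ zWord ++ gw j ++ zWord.reverse ++ (gw j).reverse, l < 12 := fun l hl => by
    simp only [List.mem_append, List.mem_reverse] at hl
    rcases hl with ((h | h) | h) | h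
    exacts [(show ∀ l ∈ zWord, l < 12 by decide) l h, gw_letters ⟨j, hj⟩ l h,
      (show ∀ l ∈ zWord, l < 12 by decide) l h, gw_letters ⟨j, hj⟩ l h]
  have h := fixTest_one hw (List.all_eq_true.1 g_fix j (List.mem_range.2 hj))
  rw [wval_append, wval_append, wval_append, wval_reverse im (fun l _ => im_sq l),
    wval_reverse im (fun l _ => im_sq l)] at h
  exact Commute.symm (commutatorElement_eq_one_iff_commute.1 (by rw [commutatorElement_def]; exact h))

theorem mem_tree {k : Fin 126} (hk : k.val ≠ 0) : ∃ j < 10, ∃ p : Fin 126, p.val < k.val ∧ (par k.val) = (j, p.val) ∧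
    ∀ i, gEl j * mem p i * (gEl j)⁻¹ = mem k i := by
  have h := List.all_eq_true.1 tree_ok k.val (List.mem_range.2 k.isLt)
  simp only [Bool.or_eq_true, beq_iff_eq, hk, false_or, Bool.and_eq_true, decide_eq_true_eq, List.all_eq_true] at h
  obtain ⟨⟨hj, hp⟩, hi⟩ := h
  refine ⟨_, hj, ⟨_, hp.trans k.isLt⟩, hp, rfl, fun i => ?_⟩
  have hpt : gEl (par k.val).1 • P ⟨_, hp.trans k.isLt⟩ i = P k i := Fin.ext (by
    rw [gEl_smul hj]
    exact hi i.val (List.mem_range.2 i.isLt))
  exact ((tied _ i).conj _).eq (hpt.symm ▸ tied k i)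

theorem mem_zero : mem 0 0 = im 0 ∧ mem 0 1 = im 2 ∧ mem 0 2 = im 4 ∧ mem 0 3 = im 6 := by
  have key : ∀ (i : Fin 4) (x : ℕ), x < 12 → pv i.val = letterPoint x → mem 0 i = im x := fun i x hx h =>
    (tied 0 i).eq ((show P 0 i = pt x from Fin.ext (by rw [pt_val hx]; simpa [P] using h)) ▸ tied_all x hx)
  exact ⟨key 0 0 (by norm_num) base_pts.1, key 1 2 (by norm_num) base_pts.2.1, key 2 4 (by norm_num) base_pts.2.2.1,
    key 3 6 (by norm_num) base_pts.2.2.2⟩

/-- The four members of a quad. -/
noncomputable def four (k : Fin 126) : List Gm := [mem k 0, mem k 1, mem k 2, mem k 3]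

theorem mem_four {k : Fin 126} {x : Gm} : x ∈ four k ↔ ∃ i, mem k i = x := by
  simp only [four, List.mem_cons, List.not_mem_nil, or_false]
  constructor
  · rintro (rfl | rfl | rfl | rfl) <;> exact ⟨_, rfl⟩
  · rintro ⟨i, rfl⟩; fin_cases i <;> simp

theorem four_ok : ∀ k : Fin 126, CList transp (four k) ∧ (four k).prod = z0 := by
  intro k
  induction hn : k.val using Nat.strong_induction_on generalizing k with
  | _ n ih =>
    by_cases hk : k.val = 0
    · obtain rfl : k = 0 := Fin.ext hk
      obtain ⟨e0, e1, e2, e3⟩ := mem_zero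
      obtain ⟨a, b, c, d, e, f⟩ := z_words
      refine ⟨⟨?_, fun x hx => ?_, ?_⟩, ?_⟩
      · rw [four]
        simp only [List.nodup_cons, List.mem_cons, List.not_mem_nil, or_false, not_or, List.nodup_nil, and_true]
        refine ⟨⟨?_, ?_, ?_⟩, ⟨?_, ?_⟩, ?_, not_false⟩ <;> intro h <;> exact absurd (mem_inj h).2 (by decide)
      · obtain ⟨i, rfl⟩ := mem_four.1 hx
        exact mem_transp' _ _
      · have C : ∀ {x y : ℕ}, x < 12 → y < 12 → lab x y = 2 → Commute (im x) (im y) := fun hx hy h =>
          good_im.comm hx hy h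
        simp only [four, e0, e1, e2, e3, List.mem_cons, List.not_mem_nil, or_false]
        rintro x (rfl | rfl | rfl | rfl) y (rfl | rfl | rfl | rfl)
        exacts [Commute.refl _, C (by norm_num) (by norm_num) a, C (by norm_num) (by norm_num) b,
          C (by norm_num) (by norm_num) c, (C (by norm_num) (by norm_num) a).symm, Commute.refl _,
          C (by norm_num) (by norm_num) d, C (by norm_num) (by norm_num) e, (C (by norm_num) (by norm_num) b).symm,
          (C (by norm_num) (by norm_num) d).symm, Commute.refl _, C (by norm_num) (by norm_num) f,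
          (C (by norm_num) (by norm_num) c).symm, (C (by norm_num) (by norm_num) e).symm,
          (C (by norm_num) (by norm_num) f).symm, Commute.refl _]
      · simp [four, e0, e1, e2, e3, z0, zWord, wval]
    · obtain ⟨j, hj, p, hp, -, hc⟩ := mem_tree hk
      obtain ⟨h1, h2⟩ := ih p.val (hn ▸ hp) p rfl
      have e : four k = (four p).map fun a => gEl j * a * (gEl j)⁻¹ := by simp [four, hc]
      refine ⟨e ▸ h1.map_conj transp_class _, ?_⟩
      rw [e, conj_list_prod, h2, (gEl_comm hj).eq, mul_inv_cancel_right]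

/-- The centraliser of the product. -/
abbrev Cz : Subgroup Gm := Subgroup.centralizer {z0}

theorem comm_cz (g : Cz) : Commute g.1 z0 := Subgroup.mem_centralizer_singleton_iff.1 g.2

variable (hm : Cfsg.Lib.ThreeTr.M24 transp)
include hm

theorem fixed_cover {t : Gm} (ht : t ∈ transp) (hc : Commute t z0) : ∃ k i, mem k i = t := by
  classical
  have h4 := four_ok 0
  have hcount := hm.four_fixed_count (a := mem 0 0) (b := mem 0 1) (c := mem 0 2) (e := mem 0 3) h4.1
  rw [show mem 0 0 * mem 0 1 * mem 0 2 * mem 0 3 = z0 by rw [← h4.2]; simp [four, mul_assoc]] at hcount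
  let S : Set Gm := Set.range fun p : Fin 126 × Fin 4 => mem p.1 p.2
  have hS : S ⊆ {u | u ∈ transp ∧ Commute u z0} := by
    rintro _ ⟨p, rfl⟩
    exact ⟨mem_transp' _ _, (z_comm_mem _ _).symm⟩
  have hn : S.ncard = 504 := by
    rw [← Nat.card_coe_set_eq, Nat.card_range_of_injective fun a b e => Prod.ext (mem_inj e).1 (mem_inj e).2]
    simp
  have hfin : ({u | u ∈ transp ∧ Commute u z0} : Set Gm).Finite := Set.finite_of_ncard_pos (by rw [hcount]; norm_num)
  have e := Set.eq_of_subset_of_ncard_le hS (by rw [hn, hcount]) hfin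
  obtain ⟨p, hp⟩ := e.ge (show t ∈ {u | u ∈ transp ∧ Commute u z0} from ⟨ht, hc⟩)
  exact ⟨p.1, p.2, hp⟩

/-- A commuting four with the product lies in one quad as soon as it meets it. -/
theorem four_unique {l : List Gm} (hl : CList transp l) (h4 : l.length = 4) (hp : l.prod = z0) {k : Fin 126}
    {i : Fin 4} (hk : mem k i ∈ l) {x : Gm} (hx : x ∈ l) : ∃ i', mem k i' = x := by
  classical
  obtain ⟨hq, hqp⟩ := four_ok k
  have hkq : mem k i ∈ four k := mem_four.2 ⟨i, rfl⟩
  by_cases hxe : x = mem k i
  · exact ⟨i, hxe.symm⟩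
  have e1 := List.prod_erase_of_comm hk fun a ha b hb => (hl.comm a ha b hb).eq
  have e2 := List.prod_erase_of_comm hkq fun a ha b hb => (hq.comm a ha b hb).eq
  have hsub : ∀ {m : List Gm}, CList transp m → CList transp (m.erase (mem k i)) := fun {m} hm' =>
    ⟨hm'.nodup.erase _, fun a ha => hm'.mem a (List.mem_of_mem_erase ha),
      fun a ha b hb => hm'.comm a (List.mem_of_mem_erase ha) b (List.mem_of_mem_erase hb)⟩
  have h := hm.unique.uniq 3 le_rfl _ _ (hsub hl) (hsub hq) (by rw [List.length_erase_of_mem hk, h4])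
    (by rw [List.length_erase_of_mem hkq]; rfl) (mul_left_cancel (e1.trans (hp.trans (hqp.symm.trans e2.symm)))) x
  exact mem_four.1 (List.mem_of_mem_erase (h.1 ((List.mem_erase_of_ne hxe).2 hx)))

theorem conj_quad (g : Cz) (k : Fin 126) : ∃ k', ∀ i, ∃ i', mem k' i' = g.1 * mem k i * g.1⁻¹ := by
  obtain ⟨hq, hqp⟩ := four_ok k
  have hl := hq.map_conj transp_class g.1
  have hp : ((four k).map fun a => g.1 * a * g.1⁻¹).prod = z0 := by
    rw [conj_list_prod, hqp, (comm_cz g).eq, mul_inv_cancel_right]
  have hmem : ∀ i, g.1 * mem k i * g.1⁻¹ ∈ (four k).map fun a => g.1 * a * g.1⁻¹ := fun i =>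
    List.mem_map.2 ⟨_, mem_four.2 ⟨i, rfl⟩, rfl⟩
  obtain ⟨k', i', e⟩ := fixed_cover hm (hl.mem _ (hmem 0))
    (by
      have := ((comm_cz g).symm.mul_right (z_comm_mem k 0)).mul_right (comm_cz g).symm.inv_right
      exact this.symm)
  exact ⟨k', fun i => four_unique hm hl (by simp [four]) hp (e ▸ hmem 0) (hmem i)⟩

/-- The image of a quad. -/
noncomputable def sigFun (g : Cz) (k : Fin 126) : Fin 126 := (conj_quad hm g k).choose

theorem sig_spec (g : Cz) (k : Fin 126) (i : Fin 4) : ∃ i', mem (sigFun hm g k) i' = g.1 * mem k i * g.1⁻¹ :=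
  (conj_quad hm g k).choose_spec i

theorem sig_eq {g : Cz} {k k' : Fin 126} {i i' : Fin 4} (h : mem k' i' = g.1 * mem k i * g.1⁻¹) :
    sigFun hm g k = k' := by
  obtain ⟨j, hj⟩ := sig_spec hm g k i
  exact (mem_inj (hj.trans h.symm)).1

theorem sig_mul (g h : Cz) (k : Fin 126) : sigFun hm (g * h) k = sigFun hm g (sigFun hm h k) := by
  obtain ⟨i1, h1⟩ := sig_spec hm h k 0
  obtain ⟨i2, h2⟩ := sig_spec hm g (sigFun hm h k) i1
  refine sig_eq hm (i := 0) (i' := i2) ?_
  rw [h2, h1, Subgroup.coe_mul]
  group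

theorem sig_one (k : Fin 126) : sigFun hm 1 k = k := sig_eq hm (i := 0) (i' := 0) (by simp)

/-- The action on the quads. -/
noncomputable def sigma : Cz →* Equiv.Perm (Fin 126) where
  toFun g := ⟨sigFun hm g, sigFun hm g⁻¹, fun k => by rw [← sig_mul, inv_mul_cancel, sig_one],
    fun k => by rw [← sig_mul, mul_inv_cancel, sig_one]⟩
  map_one' := Equiv.ext (sig_one hm)
  map_mul' g h := Equiv.ext (sig_mul hm g h)

theorem sigma_apply (g : Cz) (k : Fin 126) : sigma hm g k = sigFun hm g k := rfl

theorem sigma_of_smul {g : Cz} {k k' : Fin 126} {i i' : Fin 4} (h : g.1 • P k i = P k' i') : sigma hm g k = k' :=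
  sig_eq hm (i := i) (i' := i') (((h ▸ (tied k i).conj g.1) : Tied _ (P k' i')).eq (tied k' i')).symm

omit hm

theorem gen_test : ((List.range 10).all fun j => (List.range 126).all fun k =>
    (List.range 4).any fun i => moves (gw j).reverse (pv (4 * k)) == pv (4 * (gfun j (Fin.ofNat 126 k)).val + i)) = true := by
  decide +kernel

include hm

theorem sigma_gen {j : ℕ} (hj : j < 10) :
    sigma hm ⟨gEl j, Subgroup.mem_centralizer_singleton_iff.2 (gEl_comm hj).eq⟩ = rho (gIso j) := by
  refine Equiv.ext fun k => ?_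
  have h := List.all_eq_true.1 (List.all_eq_true.1 gen_test j (List.mem_range.2 hj)) k.val (List.mem_range.2 k.isLt)
  rw [List.any_eq_true] at h
  obtain ⟨i, hi, he⟩ := h
  rw [beq_iff_eq, Fin.ofNat_val_eq_self] at he
  refine sigma_of_smul hm (i := 0) (i' := ⟨i, List.mem_range.1 hi⟩) (Fin.ext ?_)
  rw [gEl_smul hj, gIso_apply]
  simpa [P] using he

omit hm

theorem base_adj : ((List.range 4).all fun i => (List.range 504).all fun m =>
    (moves [2 * i] (pv m) == pv m) ==
      (m / 4 == 0 || adjQ 0 (Fin.ofNat 126 (m / 4)))) = true := by decide +kernel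

include hm

/-- Two members commute exactly when their quads are equal or orthogonal. -/
theorem commute_iff (k l : Fin 126) : ∀ i i' : Fin 4, Commute (mem k i) (mem l i') ↔ (k = l ∨ adjQ k l = true) := by
  induction hn : k.val using Nat.strong_induction_on generalizing k l with
  | _ n ih =>
    intro i i'
    by_cases hk : k.val = 0
    · obtain rfl : k = 0 := Fin.ext hk
      have hb := List.all_eq_true.1 (List.all_eq_true.1 base_adj i.val (List.mem_range.2 i.isLt)) (4 * l.val + i'.val)
        (List.mem_range.2 (by omega))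
      rw [show (4 * l.val + i'.val) / 4 = l.val by omega, Fin.ofNat_val_eq_self, beq_iff_eq] at hb
      obtain ⟨e0, e1, e2, e3⟩ := mem_zero
      have hi : mem 0 i = im (2 * i.val) := by fin_cases i <;> assumption
      have hpt : (im (2 * i.val) • P l i' = P l i') ↔ moves [2 * i.val] (pv (4 * l.val + i'.val)) = pv (4 * l.val + i'.val) := by
        have := smul_moves (w := [2 * i.val]) (fun x hx => by simp at hx; omega) (P l i')
        rw [wval_single, List.reverse_singleton] at this
        constructor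
        · intro e; exact this.symm.trans (congrArg Fin.val e)
        · intro e; exact Fin.ext (this.trans e)
      rw [hi, (tied l i').commute_iff, hpt, ← beq_iff_eq (a := moves [2 * i.val] (pv (4 * l.val + i'.val))), hb,
        Bool.or_eq_true, beq_iff_eq, Fin.ext_iff, Fin.val_zero, eq_comm]
    · obtain ⟨j, hj, p, hp, -, hc⟩ := mem_tree hk
      let g : Cz := ⟨gEl j, Subgroup.mem_centralizer_singleton_iff.2 (gEl_comm hj).eq⟩
      obtain ⟨i'', h2⟩ := sig_spec hm g⁻¹ l i'
      have hl : mem l i' = gEl j * mem (sigFun hm g⁻¹ l) i'' * (gEl j)⁻¹ := by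
        rw [h2]; simp [g]; group
      rw [← hc, hl, conj_commute_iff, ih p.val (hn ▸ hp) p _ rfl]
      have hpk : rho (gIso j) p = k := by
        rw [← sigma_gen hm hj, sigma_apply]
        exact sig_eq hm (i := i) (i' := i) (hc i).symm
      have hgl : rho (gIso j) (sigFun hm g⁻¹ l) = l := by
        rw [← sigma_gen hm hj, sigma_apply, ← sig_mul, mul_inv_cancel, sig_one]
      conv_rhs => rw [← hpk, ← hgl, rho_adj, EmbeddingLike.apply_eq_iff_eq]

theorem range_sigma : (sigma hm).range = autQ := by
  refine eq_autQ ?_ fun j hj => ⟨_, sigma_gen hm hj⟩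
  rintro _ ⟨g, rfl⟩ k l
  rw [Bool.eq_iff_iff]
  by_cases hkl : k = l
  · subst hkl; simp [adj_irrefl]
  obtain ⟨i, hi⟩ := sig_spec hm g k 0
  obtain ⟨i', hi'⟩ := sig_spec hm g l 0
  have h := commute_iff hm (sigFun hm g k) (sigFun hm g l) i i'
  rw [hi, hi', conj_commute_iff, commute_iff hm k l 0 0] at h
  simp only [hkl, false_or] at h
  have hne : sigma hm g k ≠ sigma hm g l := fun e => hkl ((sigma hm g).injective e)
  rw [sigma_apply, sigma_apply] at hne ⊢
  simp only [hne, false_or] at h
  exact h.symm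

end Cfsg.Lib.FiFour.Quad
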