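import Cfsg.Agent.FiFour.Quad.Form

/-!
Ten permutations of the 126 classes; the group of permutations keeping orthogonality has order 13063680 and is
the image of the isometries, and the derived image is simple with trivial centraliser.
-/

set_option autoImplicit false
set_option maxRecDepth 100000
set_option linter.unusedSectionVars false

namespace Cfsg.Lib.FiFour.Quad

open Cfsg Matrix Cfsg.Lib.Classical
open scoped commutatorElement

/-- The reflection in the vector of a class, by formula. -/
def reflF (r : Fin 126) (x : V6) : V6 := fun i => x i - 2 * dot6 (vv r) x * vv r i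

/-- The reflection in the vector of a class. -/
noncomputable def refOf (r : Fin 126) : Cfsg.isometryGroup K3 (⇑Q6s) :=
  Refl.refl Q6s (vv r) (by rw [q6_apply, (vv_spec r).1]; exact one_ne_zero)

theorem refOf_apply (r : Fin 126) (x : V6) : mx (refOf r) *ᵥ x = reflF r x := by
  rw [mx, refOf, Refl.coe_refl, Refl.mulVec_eq, q6_apply, (vv_spec r).1, inv_one, one_mul, polar6s]
  rfl

theorem refOf_rho (r k : Fin 126) : rho (refOf r) k = cls (reflF r (vv k)) := by rw [rho_apply, refOf_apply]

/-- The matrices of the three even elements. -/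
def matQ (t : Fin 3) : Matrix (Fin 6) (Fin 6) K3 :=
  Matrix.of fun r c => ((((qMat.getD t.val []).getD (6 * r.val + c.val) 0) : ℕ) : K3)

theorem matQ_sq : ∀ t : Fin 3, matQ t * matQ t = 1 := by decide +kernel

theorem matQ_code : ∀ t : Fin 3, ∀ c : Fin 729, sq6 (matQ t *ᵥ dec c.val) = sq6 (dec c.val) := by decide +kernel

/-- The three even elements as isometries. -/
noncomputable def matIso (t : Fin 3) : Cfsg.isometryGroup K3 (⇑Q6s) :=
  ⟨⟨matQ t, matQ t, matQ_sq t, matQ_sq t⟩, (Refl.mem_iff Q6s).2 fun x => by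
    have h := matQ_code t ⟨enc x, enc_lt x⟩
    simp only [dec_enc] at h
    rw [q6_apply, q6_apply]
    exact h⟩

/-- The quad of one of seven generators. -/
def refIdx (j : ℕ) : Fin 126 := Fin.ofNat 126 (qRefl.getD j 0)

/-- A generator on the classes, by formula. -/
def gfun (j : ℕ) (k : Fin 126) : Fin 126 :=
  if j < 7 then cls (reflF (refIdx j) (vv k)) else cls (matQ (Fin.ofNat 3 (j - 7)) *ᵥ vv k)

/-- A generator as an isometry. -/
noncomputable def gIso (j : ℕ) : Cfsg.isometryGroup K3 (⇑Q6s) :=
  if j < 7 then refOf (refIdx j) else matIso (Fin.ofNat 3 (j - 7))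

theorem gIso_apply (j : ℕ) (k : Fin 126) : rho (gIso j) k = gfun j k := by
  unfold gIso gfun
  split_ifs
  · exact refOf_rho _ _
  · rfl

/-- A word in the generators on the classes. -/
def wordFun (w : List ℕ) (k : Fin 126) : Fin 126 := w.foldr gfun k

theorem word_apply : ∀ (w : List ℕ) (k : Fin 126), ((w.map fun j => rho (gIso j)).prod) k = wordFun w k
  | [], _ => rfl
  | j :: w, k => by
    rw [List.map_cons, List.prod_cons, Equiv.Perm.mul_apply, word_apply w k, gIso_apply]
    rfl

/-- The points of the chain. -/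
def bs (j : ℕ) : Fin 126 := Fin.ofNat 126 (qBase.getD j 0)

/-- A class looks like the next point of the chain to the earlier ones. -/
def looks (j : ℕ) (x : Fin 126) : Bool :=
  (List.range j).all fun i => (x != bs i) && (adjQ x (bs i) == adjQ (bs j) (bs i))

/-- The orbits of the chain. -/
def orbs : List (List (ℕ × List ℕ)) := [qOrb0, qOrb1, qOrb2, qOrb3, qOrb4, qOrb5]

/-- The orbit at one step. -/
def orb (j : ℕ) : List (ℕ × List ℕ) := orbs.getD j [(qBase.getD j 0, [])]

theorem orb_ok : ((List.range 11).all fun j =>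
    (List.finRange 126).all fun x => looks j x == (orb j).any fun e => e.1 == x.val) = true := by decide +kernel

theorem orb_words : ((List.range 11).all fun j => (orb j).all fun e =>
    decide (e.1 < 126) && (e.2.all fun g => decide (g < 10)) &&
      ((List.range j).all fun i => wordFun e.2 (bs i) == bs i) && wordFun e.2 (bs j) == Fin.ofNat 126 e.1) = true := by
  decide +kernel

theorem orb_nodup : ((List.range 11).all fun j => decide ((orb j).map Prod.fst).Nodup) = true := by decide +kernel

/-- The signature of a class. -/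
def sig (x : Fin 126) : List (Bool × Bool) := (List.range 11).map fun i => (x == bs i, adjQ x (bs i))

theorem sig_nodup : decide ((List.finRange 126).map sig).Nodup = true := by decide +kernel

theorem adj_irrefl (x : Fin 126) : adjQ x x = false := by simp [adjQ]

/-- Elements fixing the first points of the chain. -/
def fixFirst (H : Subgroup (Equiv.Perm (Fin 126))) (j : ℕ) : Subgroup (Equiv.Perm (Fin 126)) where
  carrier := {h | h ∈ H ∧ ∀ i < j, h (bs i) = bs i}
  one_mem' := ⟨one_mem H, fun _ _ => rfl⟩
  mul_mem' ha hb := ⟨mul_mem ha.1 hb.1, fun i hi => by rw [Equiv.Perm.mul_apply, hb.2 i hi, ha.2 i hi]⟩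
  inv_mem' ha := ⟨inv_mem ha.1, fun i hi => by rw [Equiv.Perm.inv_eq_iff_eq, ha.2 i hi]⟩

variable {H : Subgroup (Equiv.Perm (Fin 126))} (hadj : ∀ h ∈ H, ∀ k l, adjQ (h k) (h l) = adjQ k l)
  (hgen : ∀ j < 10, rho (gIso j) ∈ H)
include hadj hgen

theorem orbit_count {j : ℕ} (hj : j < 11) :
    Nat.card (fixFirst H j) = (orb j).length * Nat.card (fixFirst H (j + 1)) := by
  classical
  have hn : ((orb j).map Prod.fst).Nodup := of_decide_eq_true (List.all_eq_true.1 orb_nodup j (List.mem_range.2 hj))
  have hw := List.all_eq_true.1 (List.all_eq_true.1 orb_words j (List.mem_range.2 hj))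
  have hok := List.all_eq_true.1 (List.all_eq_true.1 orb_ok j (List.mem_range.2 hj))
  let S : Set (Fin 126) := {x | x.val ∈ (orb j).map Prod.fst}
  have horb : MulAction.orbit (fixFirst H j) (bs j) = S := by
    ext x
    constructor
    · rintro ⟨⟨h, hH, hfix⟩, rfl⟩
      show (h (bs j)).val ∈ (orb j).map Prod.fst
      have hl : looks j (h (bs j)) = true := by
        refine List.all_eq_true.2 fun i hi => ?_
        have hi' := List.mem_range.1 hi
        have e0 : adjQ (h (bs j)) (bs i) = adjQ (bs j) (bs i) := by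
          conv_lhs => rw [← hfix i hi']
          rw [hadj h hH]
        rw [Bool.and_eq_true, bne_iff_ne, beq_iff_eq]
        refine ⟨fun e => ?_, e0⟩
        rw [← hfix i hi'] at e
        have hnd : ∀ j : Fin 11, ∀ i : Fin 11, i.val < j.val → bs j.val ≠ bs i.val := by decide +kernel
        exact hnd ⟨j, hj⟩ ⟨i, by omega⟩ hi' (h.injective e)
      have h1 := hok _ (List.mem_finRange (h (bs j)))
      rw [hl, beq_iff_eq] at h1
      obtain ⟨e, he, hx⟩ := List.any_eq_true.1 h1.symm
      exact List.mem_map.2 ⟨e, he, by simpa using hx⟩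
    · intro hx
      obtain ⟨e, he, hex⟩ := List.mem_map.1 hx
      have h := hw e he
      simp only [Bool.and_eq_true, beq_iff_eq, decide_eq_true_eq, List.all_eq_true] at h
      obtain ⟨⟨⟨-, hg⟩, hfix⟩, hmove⟩ := h
      refine ⟨⟨(e.2.map fun g => rho (gIso g)).prod, list_prod_mem fun p hp => ?_, fun i hi => ?_⟩, ?_⟩
      · obtain ⟨g, hg', rfl⟩ := List.mem_map.1 hp
        exact hgen g (hg g hg')
      · rw [word_apply]
        exact hfix i (List.mem_range.2 hi)
      · show (e.2.map fun g => rho (gIso g)).prod (bs j) = x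
        rw [word_apply, hmove, hex]
        exact Fin.ofNat_val_eq_self x
  have hS : S.ncard = (orb j).length := by
    have e : Fin.val '' S = ↑((orb j).map Prod.fst).toFinset := by
      ext n
      constructor
      · rintro ⟨x, hx, rfl⟩
        exact List.mem_toFinset.2 hx
      · intro hn'
        have hn' := List.mem_toFinset.1 hn'
        obtain ⟨e, he, rfl⟩ := List.mem_map.1 hn'
        have h := hw e he
        simp only [Bool.and_eq_true, decide_eq_true_eq] at h
        exact ⟨⟨e.1, h.1.1.1⟩, hn', rfl⟩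
    rw [← Set.ncard_image_of_injective S Fin.val_injective, e, Set.ncard_coe_finset,
      List.toFinset_card_of_nodup hn, List.length_map]
  have hstab : Nat.card (MulAction.stabilizer (fixFirst H j) (bs j)) = Nat.card (fixFirst H (j + 1)) := by
    refine Nat.card_congr ⟨fun h => ⟨h.1.1, h.1.2.1, fun i hi => ?_⟩,
      fun h => ⟨⟨h.1, h.2.1, fun i hi => h.2.2 i (by omega)⟩, h.2.2 j (by omega)⟩, fun _ => rfl, fun _ => rfl⟩
    rcases Nat.lt_succ_iff_lt_or_eq.1 hi with hi | rfl
    · exact h.1.2.2 i hi
    · exact h.2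
  have := MulAction.card_orbit_mul_card_stabilizer_eq_card_group (fixFirst H j) (bs j)
  rw [← Nat.card_eq_fintype_card, ← Nat.card_eq_fintype_card, ← Nat.card_eq_fintype_card] at this
  rw [← this, hstab, Nat.card_coe_set_eq, horb, hS]

theorem last_trivial : fixFirst H 11 = ⊥ := by
  refine (Subgroup.eq_bot_iff_forall _).2 fun h ⟨hH, hfix⟩ => Equiv.ext fun x => ?_
  refine List.inj_on_of_nodup_map (of_decide_eq_true sig_nodup) (List.mem_finRange _) (List.mem_finRange _) ?_
  refine List.map_congr_left fun i hi => ?_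
  have hi' := List.mem_range.1 hi
  show (h x == bs i, adjQ (h x) (bs i)) = (x == bs i, adjQ x (bs i))
  rw [← hadj h hH x (bs i), hfix i hi']
  refine Prod.ext ?_ rfl
  rw [Bool.eq_iff_iff, beq_iff_eq, beq_iff_eq]
  exact ⟨fun e => h.injective (e.trans (hfix i hi').symm), fun e => by rw [e, hfix i hi']⟩

theorem card_of_chain : Nat.card H = 13063680 := by
  have h0 : fixFirst H 0 = H := by
    ext h
    exact ⟨fun h' => h'.1, fun h' => ⟨h', fun i hi => absurd hi (Nat.not_lt_zero i)⟩⟩
  have hl : (List.range 11).map (fun j => (orb j).length) = [126, 45, 12, 24, 4, 2, 1, 1, 1, 1, 1] := by decide +kernel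
  simp only [List.range_succ, List.range_zero, List.map_nil, List.map_cons, List.nil_append,
    List.cons_append, List.cons.injEq, and_true] at hl
  obtain ⟨a0, a1, a2, a3, a4, a5, a6, a7, a8, a9, a10⟩ := hl
  rw [← h0, orbit_count hadj hgen (show 0 < 11 by norm_num), orbit_count hadj hgen (show 1 < 11 by norm_num),
    orbit_count hadj hgen (show 2 < 11 by norm_num), orbit_count hadj hgen (show 3 < 11 by norm_num),
    orbit_count hadj hgen (show 4 < 11 by norm_num), orbit_count hadj hgen (show 5 < 11 by norm_num),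
    orbit_count hadj hgen (show 6 < 11 by norm_num), orbit_count hadj hgen (show 7 < 11 by norm_num),
    orbit_count hadj hgen (show 8 < 11 by norm_num), orbit_count hadj hgen (show 9 < 11 by norm_num),
    orbit_count hadj hgen (show 10 < 11 by norm_num), last_trivial hadj hgen, Subgroup.card_bot,
    a0, a1, a2, a3, a4, a5, a6, a7, a8, a9, a10]

omit hadj hgen

/-- The permutations keeping orthogonality. -/
def autQ : Subgroup (Equiv.Perm (Fin 126)) where
  carrier := {h | ∀ k l, adjQ (h k) (h l) = adjQ k l}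
  one_mem' := fun _ _ => rfl
  mul_mem' {a b} ha hb := fun k l => (ha (b k) (b l)).trans (hb k l)
  inv_mem' {a} ha := fun k l => by
    conv_rhs => rw [← Equiv.apply_symm_apply a k, ← Equiv.apply_symm_apply a l, ha]
    rfl

theorem rho_mem_autQ (g : Cfsg.isometryGroup K3 (⇑Q6s)) : rho g ∈ autQ := rho_adj g

theorem eq_autQ {H : Subgroup (Equiv.Perm (Fin 126))} (hle : H ≤ autQ) (hgen : ∀ j < 10, rho (gIso j) ∈ H) :
    H = autQ := by
  refine Subgroup.eq_of_le_of_card_ge hle ?_
  rw [card_of_chain (H := H) (fun h hh => hle hh) hgen,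
    card_of_chain (H := autQ) (fun h hh => hh) fun _ _ => rho_adj _]

theorem range_rho : (rho.range : Subgroup (Equiv.Perm (Fin 126))) = autQ :=
  eq_autQ (fun _ ⟨g, e⟩ => e ▸ rho_adj g) fun j _ => ⟨gIso j, rfl⟩

theorem card_autQ : Nat.card autQ = 13063680 :=
  card_of_chain (H := autQ) (fun _ hh => hh) fun _ _ => rho_adj _

/-- The commutator of two reflections by formula. -/
def comFun (p : ℕ × ℕ) (k : Fin 126) : Fin 126 :=
  let a : Fin 126 := Fin.ofNat 126 p.1
  let b : Fin 126 := Fin.ofNat 126 p.2
  let f := fun (r x : Fin 126) => cls (reflF r (vv x))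
  f a (f b (f a (f b k)))

theorem fix_pairs : ((qFix.all fun p => comFun p 0 == 0) &&
    (List.finRange 126).all fun x => x == 0 || qFix.any fun p => comFun p x != x) = true := by decide +kernel

theorem reach_ok : ((qReach.zipIdx.all fun e =>
    (e.1.2.2 == 0 || (qReach.take e.2).any fun f => f.1 == e.1.2.2) &&
      comFun (qMove.getD e.1.2.1 (0, 0)) (Fin.ofNat 126 e.1.2.2) == Fin.ofNat 126 e.1.1) &&
    (List.finRange 126).all fun x => x == 0 || qReach.any fun f => f.1 == x.val) = true := by decide +kernel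

theorem comFun_mem (p : ℕ × ℕ) : ∃ g ∈ (Cfsg.Omega K3 (⇑Q6s)).map rho, ∀ k, g k = comFun p k := by
  refine ⟨rho ⁅refOf (Fin.ofNat 126 p.1), refOf (Fin.ofNat 126 p.2)⁆, ⟨_, Subgroup.commutator_mem_commutator
    (Subgroup.mem_top _) (Subgroup.mem_top _), rfl⟩, fun k => ?_⟩
  have hinv : ∀ r, (refOf r)⁻¹ = refOf r := fun r => inv_eq_of_mul_eq_one_left (by
    refine Subtype.ext (Units.ext ?_)
    show mx (refOf r) * mx (refOf r) = 1
    refine Matrix.toLin'.injective (LinearMap.ext fun x => ?_)
    show (mx (refOf r) * mx (refOf r)) *ᵥ x = (1 : Matrix (Fin 6) (Fin 6) K3) *ᵥ x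
    rw [← mulVec_mulVec, refOf_apply, refOf_apply, one_mulVec]
    funext i
    have h : dot6 (vv r) (reflF r x) = dot6 (vv r) x - 2 * dot6 (vv r) x * sq6 (vv r) := by
      simp only [dot6, reflF, sq6]; ring
    show reflF r x i - 2 * dot6 (vv r) (reflF r x) * vv r i = x i
    rw [h, (vv_spec r).1, reflF]
    ring)
  rw [commutatorElement_def, hinv, hinv, map_mul, map_mul, map_mul, Equiv.Perm.mul_apply, Equiv.Perm.mul_apply,
    Equiv.Perm.mul_apply, refOf_rho, refOf_rho, refOf_rho, refOf_rho]
  rfl

theorem omega_centralizer {h : Equiv.Perm (Fin 126)} (hh : ∀ g ∈ (Cfsg.Omega K3 (⇑Q6s)).map rho, Commute h g) :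
    h = 1 := by
  have hc : ∀ p k, h (comFun p k) = comFun p (h k) := fun p k => by
    obtain ⟨g, hg, e⟩ := comFun_mem p
    rw [← e, ← e]
    exact Equiv.ext_iff.1 (hh g hg).eq k
  have h0 : h 0 = 0 := by
    have hf := fix_pairs
    simp only [Bool.and_eq_true, List.all_eq_true, beq_iff_eq] at hf
    have := hf.2 (h 0) (List.mem_finRange _)
    simp only [Bool.or_eq_true, beq_iff_eq, List.any_eq_true, bne_iff_ne] at this
    rcases this with e | ⟨p, hp, hne⟩
    · exact e
    · exact absurd (by rw [← hc, hf.1 p hp]) hne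
  obtain ⟨hstep, hall⟩ := Bool.and_eq_true_iff.1 reach_ok
  have key : ∀ n : ℕ, ∀ f ∈ qReach.take n, h (Fin.ofNat 126 f.1) = Fin.ofNat 126 f.1 := by
    intro n
    induction n with
    | zero => simp
    | succ n ih =>
      intro f hf
      rw [List.take_add_one, List.mem_append] at hf
      rcases hf with hf | hf
      · exact ih f hf
      · rw [Option.mem_toList] at hf
        have he := List.all_eq_true.1 hstep (f, n) (List.mk_mem_zipIdx_iff_getElem?.2 hf)
        simp only [Bool.and_eq_true, beq_iff_eq, Bool.or_eq_true, List.any_eq_true] at he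
        obtain ⟨hp, hq⟩ := he
        rw [← hq, hc]
        congr 1
        rcases hp with e | ⟨g, hg, e⟩
        · rw [e]; exact h0
        · rw [← e]; exact ih g hg
  refine Equiv.ext fun x => ?_
  have hx := List.all_eq_true.1 hall x (List.mem_finRange x)
  simp only [Bool.or_eq_true, beq_iff_eq, List.any_eq_true] at hx
  rcases hx with e | ⟨f, hf, e⟩
  · rw [e]; exact h0
  · have := key qReach.length f (by rwa [List.take_length])
    rw [e] at this
    simpa using this

theorem omega_equiv : ∃ (K : Type) (_ : Field K) (_ : Fintype K), Fintype.card K = 9 ∧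
    Nat.card ↥((Cfsg.Omega K3 (⇑Q6s)).map rho) = 3265920 ∧
    Nonempty (↥((Cfsg.Omega K3 (⇑Q6s)).map rho) ≃* Cfsg.PSU 4 K 3) := by
  obtain ⟨K, _, _, hK, hcard, ⟨u⟩⟩ := omega_psu
  let f := rho.subgroupMap (Cfsg.Omega K3 (⇑Q6s))
  have hker : f.ker = Subgroup.center ↥(Cfsg.Omega K3 (⇑Q6s)) := by
    ext x
    constructor
    · intro hx
      have hx : rho x.1 = 1 := congrArg Subtype.val (MonoidHom.mem_ker.1 hx)
      refine Subgroup.mem_center_iff.2 fun g => Subtype.ext ?_
      rcases rho_eq_one hx with e | e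
      · show g.1 * x.1 = x.1 * g.1
        rw [e, mul_one, one_mul]
      · refine Subtype.ext (Units.ext ?_)
        show mx g.1 * mx x.1 = mx x.1 * mx g.1
        rw [e, mul_neg, neg_mul, mul_one, one_mul]
    · intro hx
      refine MonoidHom.mem_ker.2 (Subtype.ext (omega_centralizer (h := rho x.1) ?_))
      rintro _ ⟨y, hy, rfl⟩
      exact (show Commute x.1 y from (congrArg Subtype.val (Subgroup.mem_center_iff.1 hx ⟨y, hy⟩)).symm).map rho
  let e := ((QuotientGroup.quotientKerEquivOfSurjective f (rho.subgroupMap_surjective _)).symm.trans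
    (QuotientGroup.quotientMulEquivOfEq hker)).trans u
  exact ⟨K, inferInstance, inferInstance, hK, (Nat.card_congr e.toEquiv).trans hcard, ⟨e⟩⟩

end Cfsg.Lib.FiFour.Quad
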