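import Cfsg.Agent.FiFour.Quad.Group

/-!
The subgroup generated by the pairs is extraspecial of order 8192 and contains its centraliser.
-/

set_option autoImplicit false
set_option maxRecDepth 100000
set_option linter.unusedSectionVars false

namespace Cfsg.Lib.FiFour.Quad

open Cfsg Subgroup Cfsg.Lib.CosetCert Cfsg.Lib.ThreeTr
open scoped commutatorElement

attribute [local irreducible] rowF sevF lonF blkMask

theorem zc_ne : zc ≠ 1 := fun e => by
  have h := smul_moves (w := zWord) (by decide) (⟨31672, by norm_num⟩ : Pts)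
  rw [show wval im zWord = 1 from congrArg Subtype.val e, one_smul] at h
  exact absurd h (by decide +kernel)

theorem zc_sq : zc * zc = 1 := Subtype.ext (by
  show z0 * z0 = 1
  rw [← (four_ok 0).2]
  exact (four_ok 0).1.mul_self transp_class.1)

theorem pair_sq (k : Fin 126) (i j : Fin 4) : pairEl k i j * pairEl k i j = 1 := by
  rw [pairEl, (quad_comm k j i).mul_mul_mul_comm, memC_sq, memC_sq, mul_one]

theorem zc_mem : zc ∈ QS := by
  rw [← quad_prod 0 (a := 0) (b := 1) (c := 2) (d := 3) (by decide)]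
  exact mul_mem (pair_mem 0 0 1) (pair_mem 0 2 3)

/-- Conjugation changes an element at most by the product of four. -/
def Near (a b : Cz) : Prop := a * b * a⁻¹ = b ∨ a * b * a⁻¹ = zc * b

theorem pair_other (k : Fin 126) {a b c d : Fin 4} (h : [a, b, c, d].Nodup) : pairEl k c d = zc * pairEl k a b := by
  rw [← quad_prod k h, show memC k a * memC k b = pairEl k a b from rfl,
    show memC k c * memC k d = pairEl k c d from rfl]
  have hz : Commute (pairEl k c d) (pairEl k a b) := by
    unfold pairEl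
    exact ((quad_comm k c a).mul_right (quad_comm k c b)).mul_left ((quad_comm k d a).mul_right (quad_comm k d b))
  rw [mul_assoc, hz.eq, ← mul_assoc, pair_sq, one_mul]

theorem pair_self (k : Fin 126) (i : Fin 4) : pairEl k i i = 1 := memC_sq k i

/-- The exclusive sum of two positions. -/
def x4 (m s : Fin 4) : Fin 4 := Fin.ofNat 4 (Nat.xor m.val s.val)

theorem x4_cases : ∀ s t m : Fin 4, s = t ∨ (x4 m s = s ∧ x4 m t = t) ∨ (x4 m s = t ∧ x4 m t = s) ∨
    [s, t, x4 m s, x4 m t].Nodup := by decide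

theorem base_xor : ((List.range 4).all fun i => (List.range 4).all fun j => (List.range 126).all fun l =>
    (List.range 4).any fun m => (List.range 4).all fun s =>
      moves [2 * j, 2 * i] (pv (4 * l + s)) == pv (4 * l + (x4 (Fin.ofNat 4 m) (Fin.ofNat 4 s)).val)) = true := by
  decide +kernel

theorem conj_of_smul (g : Cz) {l : Fin 126} {s s' : Fin 4} (h : g.1 • P l s = P l s') :
    g * memC l s * g⁻¹ = memC l s' :=
  Subtype.ext ((h ▸ (tied l s).conj g.1 : Tied (g.1 * mem l s * g.1⁻¹) (P l s')).eq (tied l s'))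

theorem base_near (i j : Fin 4) (l : Fin 126) (s t : Fin 4) : Near (pairEl 0 i j) (pairEl l s t) := by
  have h := List.all_eq_true.1 (List.all_eq_true.1 (List.all_eq_true.1 base_xor i.val (List.mem_range.2 i.isLt)) j.val
    (List.mem_range.2 j.isLt)) l.val (List.mem_range.2 l.isLt)
  rw [List.any_eq_true] at h
  obtain ⟨m, -, hm'⟩ := h
  set m' : Fin 4 := Fin.ofNat 4 m
  have hval : (pairEl 0 i j).1 = wval im [2 * i.val, 2 * j.val] := by
    obtain ⟨e0, e1, e2, e3⟩ := mem_zero
    have hi : ∀ i : Fin 4, mem 0 i = im (2 * i.val) := fun i => by fin_cases i <;> assumption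
    show mem 0 i * mem 0 j = _
    rw [hi, hi, wval_cons, wval_single]
  have hs : ∀ s : Fin 4, pairEl 0 i j * memC l s * (pairEl 0 i j)⁻¹ = memC l (x4 m' s) := fun s => by
    refine conj_of_smul _ (Fin.ext ?_)
    rw [hval, smul_moves (by simp; omega)]
    have := List.all_eq_true.1 hm' s.val (List.mem_range.2 s.isLt)
    rw [beq_iff_eq, Fin.ofNat_val_eq_self] at this
    simpa [P, List.reverse_cons] using this
  have he : pairEl 0 i j * pairEl l s t * (pairEl 0 i j)⁻¹ = pairEl l (x4 m' s) (x4 m' t) := by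
    show pairEl 0 i j * (memC l s * memC l t) * (pairEl 0 i j)⁻¹ = memC l (x4 m' s) * memC l (x4 m' t)
    rw [← hs, ← hs]
    group
  rcases x4_cases s t m' with e | ⟨e1, e2⟩ | ⟨e1, e2⟩ | e
  · exact Or.inl (by rw [e, pair_self, mul_one, mul_inv_cancel])
  · exact Or.inl (by rw [he, e1, e2])
  · exact Or.inl (by rw [he, e1, e2]; exact (quad_comm l s t).eq.symm)
  · exact Or.inr (by rw [he, pair_other l e])

theorem pair_near (k l : Fin 126) (i j s t : Fin 4) : Near (pairEl k i j) (pairEl l s t) := by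
  obtain ⟨g, -, hg⟩ := quad_conj k
  obtain ⟨s', t', e⟩ := conj_pair g⁻¹ l s t
  have hx : pairEl k i j = g * pairEl 0 i j * g⁻¹ := by
    rw [pairEl, pairEl, hg, hg]
    group
  have hy : pairEl l s t = g * pairEl (sg g⁻¹ l) s' t' * g⁻¹ := by rw [e]; group
  rcases base_near i j (sg g⁻¹ l) s' t' with h | h
  · refine Or.inl ?_
    rw [hx, hy]
    conv_rhs => rw [← h]
    group
  · refine Or.inr ?_
    rw [hx, hy]
    calc g * pairEl 0 i j * g⁻¹ * (g * pairEl (sg g⁻¹ l) s' t' * g⁻¹) * (g * pairEl 0 i j * g⁻¹)⁻¹ =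
        g * (pairEl 0 i j * pairEl (sg g⁻¹ l) s' t' * (pairEl 0 i j)⁻¹) * g⁻¹ := by group
      _ = zc * (g * pairEl (sg g⁻¹ l) s' t' * g⁻¹) := by
        rw [h, ← mul_assoc g, (zc_central g).eq, mul_assoc, mul_assoc, mul_assoc]

theorem Near.mul {a b y : Cz} (ha : Near a y) (hb : Near b y) : Near (a * b) y := by
  have e : a * b * y * (a * b)⁻¹ = a * (b * y * b⁻¹) * a⁻¹ := by group
  have ez : ∀ w, a * (zc * w) * a⁻¹ = zc * (a * w * a⁻¹) := fun w => by
    rw [← mul_assoc a, (zc_central a).eq, mul_assoc, mul_assoc, mul_assoc]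
  rcases hb with hb | hb <;> rcases ha with ha | ha
  · exact Or.inl (by rw [e, hb, ha])
  · exact Or.inr (by rw [e, hb, ha])
  · exact Or.inr (by rw [e, hb, ez, ha])
  · exact Or.inl (by rw [e, hb, ez, ha, ← mul_assoc, zc_sq, one_mul])

theorem Near.inv {a y : Cz} (h : Near a y) : Near a⁻¹ y := by
  rcases h with h | h
  · refine Or.inl ?_
    conv_lhs => rw [← h]
    group
  · refine Or.inr ?_
    have e : a⁻¹ * (zc * y) * a⁻¹⁻¹ = y := by rw [← h]; group
    rw [← mul_assoc a⁻¹, (zc_central a⁻¹).eq, mul_assoc zc, mul_assoc zc] at e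
    calc a⁻¹ * y * a⁻¹⁻¹ = zc * (zc * (a⁻¹ * y * a⁻¹⁻¹)) := by rw [← mul_assoc, zc_sq, one_mul]
      _ = zc * y := by rw [e]

theorem near_of_mem {a b : Cz} (ha : a ∈ QS) (hb : b ∈ QS) : Near a b := by
  have h1 : ∀ {q : Cz}, q ∈ QS → ∀ k i j, Near q (pairEl k i j) := fun {q} hq => by
    induction hq using closure_induction with
    | mem x hx =>
      obtain ⟨k, i, j, rfl⟩ := hx
      exact fun _ _ _ => pair_near _ _ _ _ _ _
    | one => exact fun _ _ _ => Or.inl (by group)
    | mul a b _ _ ha hb => exact fun k i j => (ha k i j).mul (hb k i j)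
    | inv a _ ha => exact fun k i j => (ha k i j).inv
  induction hb using closure_induction with
  | mem x hx =>
    obtain ⟨k, i, j, rfl⟩ := hx
    exact h1 ha k i j
  | one => exact Or.inl (by group)
  | mul x y _ _ hx hy =>
    have e : a * (x * y) * a⁻¹ = (a * x * a⁻¹) * (a * y * a⁻¹) := by group
    rcases hx with hx | hx <;> rcases hy with hy | hy
    · exact Or.inl (by rw [e, hx, hy])
    · exact Or.inr (by rw [e, hx, hy, ← mul_assoc, (zc_central x).eq, mul_assoc])
    · exact Or.inr (by rw [e, hx, hy, mul_assoc])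
    · exact Or.inl (by rw [e, hx, hy, mul_assoc zc, ← mul_assoc x, (zc_central x).eq, ← mul_assoc zc,
        ← mul_assoc zc, zc_sq, one_mul])
  | inv x _ hx =>
    have e : a * x⁻¹ * a⁻¹ = (a * x * a⁻¹)⁻¹ := by group
    rcases hx with hx | hx
    · exact Or.inl (by rw [e, hx])
    · refine Or.inr ?_
      rw [e, hx, mul_inv_rev, inv_eq_of_mul_eq_one_right zc_sq, (zc_central x⁻¹).eq]

theorem sq_mem {q : Cz} (hq : q ∈ QS) : q * q = 1 ∨ q * q = zc := by
  induction hq using closure_induction with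
  | mem x hx =>
    obtain ⟨k, i, j, rfl⟩ := hx
    exact Or.inl (pair_sq k i j)
  | one => exact Or.inl (mul_one 1)
  | mul a b ha hb iha ihb =>
    have e : a * b * (a * b) = (a * b * a⁻¹) * (a * a) * b := by group
    have hc : ∀ w, (w = 1 ∨ w = zc) → ∀ u : Cz, u * w = w * u := fun w hw u => by
      rcases hw with rfl | rfl
      · rw [mul_one, one_mul]
      · exact (zc_central u).eq
    rw [e, mul_assoc, ← hc _ iha b, ← mul_assoc]
    rcases near_of_mem ha hb with h | h <;> rw [h] <;> rcases ihb with h2 | h2 <;> rcases iha with h3 | h3 <;>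
      simp [mul_assoc, h3, h2, zc_sq]
  | inv a _ iha =>
    rw [← mul_inv_rev]
    rcases iha with h | h <;> rw [h]
    · exact Or.inl inv_one
    · exact Or.inr (inv_eq_of_mul_eq_one_right zc_sq)

theorem QS_two : IsPGroup 2 QS := fun q => ⟨2, Subtype.ext (by
  show (q.1) ^ 4 = 1
  rw [pow_succ, pow_succ, pow_two]
  rcases sq_mem q.2 with h | h <;> rw [h]
  · rw [one_mul, h]
  · rw [mul_assoc, h, zc_sq])⟩

/-- One of twelve pairs. -/
def selK (i : Fin 12) : Fin 126 := Fin.ofNat 126 (qSel.getD i.val (0, 0, 0)).1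

/-- Its first position. -/
def selS (i : Fin 12) : Fin 4 := Fin.ofNat 4 (qSel.getD i.val (0, 0, 0)).2.1

/-- Its second position. -/
def selT (i : Fin 12) : Fin 4 := Fin.ofNat 4 (qSel.getD i.val (0, 0, 0)).2.2

/-- One of twelve elements. -/
noncomputable def selEl (i : Fin 12) : Cz := pairEl (selK i) (selS i) (selT i)

/-- Its word. -/
def selW (i : Fin 12) : List ℕ :=
  pathW 126 (selK i).val ++ [2 * (selS i).val, 2 * (selT i).val] ++ (pathW 126 (selK i).val).reverse

/-- An entry of the table of commutators. -/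
def gram (i j : Fin 12) : ZMod 2 := ((qGram.getD i.val []).getD j.val 0 : ℕ)

/-- An entry of the inverse table. -/
def gInv (i j : Fin 12) : ZMod 2 := ((qInv.getD i.val []).getD j.val 0 : ℕ)

theorem gram_inv : ∀ i j : Fin 12, (∑ k, gInv i k * gram k j) = if i = j then 1 else 0 := by decide +kernel

theorem selW_letters : ∀ i : Fin 12, ∀ l ∈ selW i, l < 12 := by decide +kernel

theorem gram_test : ((List.finRange 12).all fun i => (List.finRange 12).all fun j =>
    (List.finRange 4).any fun u => (List.finRange 4).any fun v =>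
      (moves (selW i).reverse (pv (4 * (selK j).val + (selS j).val)) == pv (4 * (selK j).val + u.val)) &&
      (moves (selW i).reverse (pv (4 * (selK j).val + (selT j).val)) == pv (4 * (selK j).val + v.val)) &&
      if gram i j = 0 then ((u == selS j) && (v == selT j)) || ((u == selT j) && (v == selS j))
      else decide [selS j, selT j, u, v].Nodup) = true := by decide +kernel

theorem selEl_val (i : Fin 12) : (selEl i).1 = wval im (selW i) := by
  obtain ⟨g, hgw, hg⟩ := quad_conj (selK i)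
  obtain ⟨e0, e1, e2, e3⟩ := mem_zero
  have hi : ∀ i : Fin 4, mem 0 i = im (2 * i.val) := fun i => by fin_cases i <;> assumption
  rw [selW, wval_append, wval_append, wval_reverse im (fun l _ => im_sq l), wval_cons, wval_single, ← hi, ← hi,
    ← hgw 126 (by omega)]
  show (memC (selK i) (selS i)).1 * (memC (selK i) (selT i)).1 = _
  rw [hg, hg]
  simp only [memC, Subgroup.coe_mul, Subgroup.coe_inv]
  group

theorem gram_spec (i j : Fin 12) :
    selEl i * selEl j * (selEl i)⁻¹ = if gram i j = 0 then selEl j else zc * selEl j := by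
  have h := List.all_eq_true.1 (List.all_eq_true.1 gram_test i (List.mem_finRange i)) j (List.mem_finRange j)
  simp only [List.any_eq_true, Bool.and_eq_true, beq_iff_eq] at h
  obtain ⟨u, -, v, -, ⟨hu, hv⟩, hc⟩ := h
  have key : ∀ s s' : Fin 4, moves (selW i).reverse (pv (4 * (selK j).val + s.val)) = pv (4 * (selK j).val + s'.val) →
      selEl i * memC (selK j) s * (selEl i)⁻¹ = memC (selK j) s' := fun s s' hm' =>
    conj_of_smul _ (Fin.ext (by rw [selEl_val, smul_moves (selW_letters i)]; exact hm'))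
  have he : selEl i * selEl j * (selEl i)⁻¹ = pairEl (selK j) u v := by
    show selEl i * (memC (selK j) (selS j) * memC (selK j) (selT j)) * (selEl i)⁻¹ = memC (selK j) u * memC (selK j) v
    rw [← key _ _ hu, ← key _ _ hv]
    group
  rw [he]
  split_ifs at hc ⊢ with hg
  · simp only [Bool.or_eq_true, Bool.and_eq_true, beq_iff_eq] at hc
    rcases hc with ⟨rfl, rfl⟩ | ⟨rfl, rfl⟩
    · rfl
    · exact (quad_comm _ _ _).eq
  · exact pair_other _ (of_decide_eq_true hc)

/-- The commutator with one of twelve elements, as a bit. -/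
noncomputable def bit (q : Cz) (j : Fin 12) : ZMod 2 := by
  classical exact if q * selEl j * q⁻¹ = selEl j then 0 else 1

theorem bit_mul (a b : QS) (j : Fin 12) : bit (a.1 * b.1) j = bit a.1 j + bit b.1 j := by
  have hne : ∀ y : Cz, zc * y ≠ y := fun y e => zc_ne (mul_eq_right.1 e)
  have hy : selEl j ∈ QS := pair_mem _ _ _
  have e : a.1 * b.1 * selEl j * (a.1 * b.1)⁻¹ = a.1 * (b.1 * selEl j * b.1⁻¹) * a.1⁻¹ := by group
  have ez : a.1 * (zc * selEl j) * a.1⁻¹ = zc * (a.1 * selEl j * a.1⁻¹) := by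
    rw [← mul_assoc a.1, (zc_central a.1).eq, mul_assoc, mul_assoc, mul_assoc]
  unfold bit
  rcases near_of_mem a.2 hy with ha | ha <;> rcases near_of_mem b.2 hy with hb | hb <;>
    simp only [e, hb, ha, ez, hne, ← mul_assoc zc zc, zc_sq, one_mul, if_true, if_false] <;> decide

/-- The commutators with twelve elements. -/
noncomputable def phi : QS →* Multiplicative (Fin 12 → ZMod 2) :=
  MonoidHom.mk' (fun q => Multiplicative.ofAdd fun j => bit q.1 j) fun a b =>
    congrArg Multiplicative.ofAdd (funext fun j => bit_mul a b j)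

theorem phi_sel (i : Fin 12) : phi ⟨selEl i, pair_mem _ _ _⟩ = Multiplicative.ofAdd (gram i) := by
  refine congrArg Multiplicative.ofAdd (funext fun j => ?_)
  unfold bit
  rw [gram_spec]
  by_cases h : gram i j = 0
  · rw [if_pos h, if_pos rfl]
    exact h.symm
  · rw [if_neg h, if_neg fun e => zc_ne (mul_eq_right.1 e)]
    exact ((show ∀ t : ZMod 2, t ≠ 0 → t = 1 by decide) _ h).symm

theorem phi_surjective : Function.Surjective phi := by
  intro f
  have key : ∀ (c : Fin 12 → ZMod 2), Multiplicative.ofAdd (∑ k, c k • gram k) ∈ phi.range := fun c => by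
    rw [ofAdd_sum]
    refine Subgroup.prod_mem _ fun k _ => ?_
    rcases (show ∀ t : ZMod 2, t = 0 ∨ t = 1 by decide) (c k) with e | e <;> rw [e]
    · rw [zero_smul]; exact one_mem _
    · rw [one_smul]; exact ⟨_, phi_sel k⟩
  have hf : f = Multiplicative.ofAdd (∑ k, (∑ i, Multiplicative.toAdd f i * gInv i k) • gram k) := by
    refine Multiplicative.toAdd.injective (funext fun j => ?_)
    simp only [toAdd_ofAdd, Finset.sum_apply, Pi.smul_apply, smul_eq_mul, Finset.sum_mul, mul_assoc]
    rw [Finset.sum_comm]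
    simp [← Finset.mul_sum, gram_inv]
  rw [hf]
  exact key _

theorem zc_phi : phi ⟨zc, zc_mem⟩ = 1 := by
  refine congrArg Multiplicative.ofAdd (funext fun j => ?_)
  unfold bit
  rw [if_pos (by rw [← (zc_central (selEl j)).eq, mul_inv_cancel_right])]
  rfl

theorem QS_facts : Nat.card QS = 8192 ∧ ∀ q : QS, phi q = 1 → q.1 = 1 ∨ q.1 = zc := by
  have hle : Nat.card QS ∣ 24576 := card_ker ▸ Subgroup.card_dvd_of_le QS_le_ker
  obtain ⟨n, hn⟩ := (IsPGroup.iff_card (p := 2)).1 QS_two
  have hmul := Subgroup.card_eq_card_quotient_mul_card_subgroup phi.ker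
  rw [Nat.card_congr (QuotientGroup.quotientKerEquivOfSurjective phi phi_surjective).toEquiv] at hmul
  have h4096 : Nat.card (Multiplicative (Fin 12 → ZMod 2)) = 4096 := by simp
  rw [h4096] at hmul
  have hker : zpowers (⟨zc, zc_mem⟩ : QS) ≤ phi.ker := zpowers_le.2 zc_phi
  have h2 : Nat.card (zpowers (⟨zc, zc_mem⟩ : QS)) = 2 := by
    rw [Nat.card_zpowers]
    exact orderOf_eq_prime (Subtype.ext (by rw [SubmonoidClass.coe_pow, pow_two]; exact zc_sq))
      fun e => zc_ne (congrArg Subtype.val e)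
  have hk2 : 2 ≤ Nat.card phi.ker := h2.ge.trans (Nat.le_of_dvd Nat.card_pos (Subgroup.card_dvd_of_le hker))
  have hn13 : n ≤ 13 := by
    by_contra hlt
    have : 2 ^ 14 ∣ 24576 := dvd_trans (pow_dvd_pow 2 (by omega)) (hn ▸ hle)
    omega
  have hge : 13 ≤ n := by
    by_contra hlt
    have : 2 ^ n ≤ 2 ^ 12 := Nat.pow_le_pow_right (by norm_num) (by omega)
    omega
  obtain rfl : n = 13 := le_antisymm hn13 hge
  norm_num at hn
  refine ⟨hn, fun q hq => ?_⟩
  have hk : zpowers (⟨zc, zc_mem⟩ : QS) = phi.ker := Subgroup.eq_of_le_of_card_ge hker (by omega)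
  have hq' : q ∈ zpowers (⟨zc, zc_mem⟩ : QS) := by rw [hk]; exact hq
  rcases eq_one_or_eq_of_mem_zpowers (Subtype.ext zc_sq) hq' with e | e
  · exact Or.inl (congrArg Subtype.val e)
  · exact Or.inr (congrArg Subtype.val e)

theorem QS_extraspecial : IsExtraspecial 2 QS := by
  refine Cfsg.Lib.LargeExtra.isExtraspecial_of QS_two zc_mem zc_ne zc_sq (fun a _ => zc_central a)
    (fun a ha b hb => ?_) (fun a ha => sq_mem ha) (fun c hc hcc => ?_) ?_
  · rw [commutatorElement_def]
    rcases near_of_mem ha hb with h | h <;> rw [h]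
    · exact Or.inl (mul_inv_cancel b)
    · exact Or.inr (mul_inv_cancel_right zc b)
  · refine QS_facts.2 ⟨c, hc⟩ (congrArg Multiplicative.ofAdd (funext fun j => ?_))
    unfold bit
    rw [if_pos (show c * selEl j * c⁻¹ = selEl j by rw [← (hcc (selEl j) (pair_mem _ _ _)).eq, mul_inv_cancel_right])]
    rfl
  · obtain ⟨i, j, hij⟩ := (show ∃ i j, gram i j ≠ 0 by decide +kernel)
    refine ⟨selEl i, pair_mem _ _ _, selEl j, pair_mem _ _ _, fun hc => hij ?_⟩
    have h := gram_spec i j
    rw [hc.eq, mul_inv_cancel_right] at h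
    by_contra h0
    rw [if_neg h0] at h
    exact zc_ne (mul_eq_right.1 h.symm)

theorem fix_of_pairs {g : Cz} {k : Fin 126} (hg : ∀ i j, g * pairEl k i j * g⁻¹ = pairEl k i j) (i : Fin 4) :
    g * memC k i * g⁻¹ = memC k i := by
  have hu := hm.unique.uniq 2 (by norm_num)
  have key : ∀ j : Fin 4, j ≠ i → g.1 * mem k i * g.1⁻¹ ∈ [mem k i, mem k j] := fun j hji => by
    have hl : CList transp [mem k i, mem k j] := ⟨by simpa using fun e => hji (mem_inj e).2.symm,
      fun w hw => by simp at hw; rcases hw with rfl | rfl <;> exact mem_transp' _ _,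
      fun w hw v hv => (four_ok k).1.comm w (by simp at hw; rcases hw with rfl | rfl <;> exact mem_four.2 ⟨_, rfl⟩)
        v (by simp at hv; rcases hv with rfl | rfl <;> exact mem_four.2 ⟨_, rfl⟩)⟩
    have hp : ([mem k i, mem k j].map fun a => g.1 * a * g.1⁻¹).prod = [mem k i, mem k j].prod := by
      rw [conj_list_prod]
      simpa [pairEl, memC] using congrArg Subtype.val (hg i j)
    exact (hu _ _ (hl.map_conj transp_class g.1) hl rfl rfl hp _).1 (by simp)
  obtain ⟨j, hj⟩ : ∃ j : Fin 4, j ≠ i := exists_ne i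
  obtain ⟨j', hj', hjj⟩ := (show ∀ i j : Fin 4, ∃ j' : Fin 4, j' ≠ i ∧ j' ≠ j by decide) i j
  have h1 := key j hj
  have h2 := key j' hj'
  simp only [List.mem_cons, List.not_mem_nil, or_false] at h1 h2
  refine Subtype.ext ?_
  show g.1 * mem k i * g.1⁻¹ = mem k i
  rcases h1 with h1 | h1
  · exact h1
  rcases h2 with h2 | h2
  · exact h2
  exact absurd (mem_inj (h1.symm.trans h2)).2.symm hjj

theorem three_test : (List.range 4).all (fun i =>
    moves (qThree.flatMap gw).reverse (pv i) == pv ([2, 0, 1, 3].getD i 0)) = true := by decide +kernel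

theorem three_perm : ∀ k : Fin 126, wordFun qThree k = k := by decide +kernel

theorem three_el : ∃ t : Cz, t ∈ sg.ker ∧ t * memC 0 0 * t⁻¹ ≠ memC 0 0 ∧
    ∀ i, t ^ 3 * memC 0 i * (t ^ 3)⁻¹ = memC 0 i := by
  let G : ℕ → Cz := fun j => if h : j < 10 then ⟨gEl j, mem_centralizer_singleton_iff.2 (gEl_comm h).eq⟩ else 1
  have hlt : ∀ j ∈ qThree, j < 10 := by decide +kernel
  have hval : ∀ w : List ℕ, (∀ j ∈ w, j < 10) → ((w.map G).prod : Cz).1 = wval im (w.flatMap gw) := by
    intro w
    induction w with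
    | nil => exact fun _ => rfl
    | cons j w ih =>
      intro h
      rw [List.map_cons, List.prod_cons, Subgroup.coe_mul, ih fun x hx => h x (List.mem_cons_of_mem j hx),
        List.flatMap_cons, wval_append]
      simp only [G, h j List.mem_cons_self, dite_true]
      rfl
  refine ⟨(qThree.map G).prod, ?_, ?_⟩
  · rw [MonoidHom.mem_ker, map_list_prod, List.map_map,
      show List.map (⇑sg ∘ G) qThree = List.map (fun j => rho (gIso j)) qThree from List.map_congr_left fun j hj => by
        simp only [Function.comp, G, hlt j hj, dite_true]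
        exact sigma_gen hm (hlt j hj)]
    exact Equiv.ext fun k => (word_apply qThree k).trans (three_perm k)
  · set t := (qThree.map G).prod
    have hletters : ∀ l ∈ qThree.flatMap gw, l < 12 := fun l hl => by
      obtain ⟨j, hj, hl⟩ := List.mem_flatMap.1 hl
      exact gw_letters ⟨j, hlt j hj⟩ l hl
    have key : ∀ i i' : Fin 4, [2, 0, 1, 3].getD i.val 0 = i'.val → t * memC 0 i * t⁻¹ = memC 0 i' := fun i i' e => by
      refine conj_of_smul _ (Fin.ext ?_)
      rw [hval _ hlt, smul_moves hletters]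
      have := List.all_eq_true.1 three_test i.val (List.mem_range.2 i.isLt)
      rw [beq_iff_eq, e] at this
      simpa [P] using this
    refine ⟨fun e => ?_, fun i => ?_⟩
    · rw [key 0 2 rfl] at e
      exact absurd (mem_inj (show mem 0 2 = mem 0 0 from congrArg Subtype.val e)).2 (by decide)
    · obtain ⟨a, b, ha, hb, hc⟩ := (show ∀ i : Fin 4, ∃ a b : Fin 4, [2, 0, 1, 3].getD i.val 0 = a.val ∧
        [2, 0, 1, 3].getD a.val 0 = b.val ∧ [2, 0, 1, 3].getD b.val 0 = i.val by decide) i
      calc t ^ 3 * memC 0 i * (t ^ 3)⁻¹ = t * (t * (t * memC 0 i * t⁻¹) * t⁻¹) * t⁻¹ := by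
            simp only [pow_succ, pow_zero, one_mul, mul_inv_rev, mul_assoc]
        _ = memC 0 i := by rw [key i a ha, key a b hb, key b i hc]

theorem ker_two_part {g : Cz} (hg : g ∈ sg.ker) {n : ℕ} (ho : orderOf g = 2 ^ n) : g ∈ QS := by
  have hq := Subgroup.card_eq_card_quotient_mul_card_subgroup (QS.subgroupOf sg.ker)
  rw [card_ker, Nat.card_congr (subgroupOfEquivOfLe QS_le_ker).toEquiv, QS_facts.1] at hq
  have h3 : Nat.card (sg.ker ⧸ QS.subgroupOf sg.ker) = 3 := by omega
  let x : sg.ker ⧸ QS.subgroupOf sg.ker := QuotientGroup.mk ⟨g, hg⟩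
  have h1 : orderOf x ∣ 3 := h3 ▸ orderOf_dvd_natCard x
  have h2 : orderOf x ∣ 2 ^ n := by
    refine (orderOf_map_dvd (QuotientGroup.mk' (QS.subgroupOf sg.ker)) ⟨g, hg⟩).trans (dvd_of_eq ?_)
    rw [← ho]
    exact (orderOf_injective sg.ker.subtype Subtype.val_injective _).symm
  have hx : orderOf x = 1 := Nat.eq_one_of_dvd_coprimes ((Nat.coprime_primes Nat.prime_three Nat.prime_two).2
    (by norm_num) |>.pow_right n) h1 h2
  exact (QuotientGroup.eq_one_iff (N := QS.subgroupOf sg.ker) (⟨g, hg⟩ : sg.ker)).1 (orderOf_eq_one_iff.1 hx)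

theorem ker_even {g : Cz} (hg : g ∈ sg.ker) : chi g.1 = 1 := by
  have hq := Subgroup.card_eq_card_quotient_mul_card_subgroup (QS.subgroupOf sg.ker)
  rw [card_ker, Nat.card_congr (subgroupOfEquivOfLe QS_le_ker).toEquiv, QS_facts.1] at hq
  have h3 : (QS.subgroupOf sg.ker).index = 3 := by rw [Subgroup.index]; omega
  have hp := Subgroup.pow_index_mem (QS.subgroupOf sg.ker) ⟨g, hg⟩
  rw [h3, mem_subgroupOf] at hp
  have hQ : ∀ q ∈ QS, chi (q : Cz).1 = 1 := fun q hq => by
    induction hq using closure_induction with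
    | mem x hx =>
      obtain ⟨k, i, j, rfl⟩ := hx
      have hc : ∀ i, chi (mem k i) = -1 := fun i => by
        obtain ⟨u, hu⟩ := mem_transp.1 (mem_transp' k i)
        rw [← hu, map_mul, map_mul, map_inv, chi_im (by norm_num)]
        simp
      show chi (mem k i * mem k j) = 1
      rw [map_mul, hc, hc]
      rfl
    | one => exact map_one chi
    | mul a b _ _ ha hb => rw [Subgroup.coe_mul, map_mul, ha, hb, one_mul]
    | inv a _ ha => rw [Subgroup.coe_inv, map_inv, ha, inv_one]
  have := hQ _ hp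
  simp only [SubmonoidClass.coe_pow, map_pow] at this
  rcases Int.units_eq_one_or (chi g.1) with e | e
  · exact e
  · rw [e] at this; exact absurd this (by decide)

theorem centralizer_QS {g : Cz} (hg : ∀ q ∈ QS, Commute g q) : g = 1 ∨ g = zc := by
  have hfix : ∀ k i, g * memC k i * g⁻¹ = memC k i := fun k => fix_of_pairs fun i j => by
    rw [(hg _ (pair_mem k i j)).eq, mul_inv_cancel_right]
  have hk : g ∈ sg.ker := Equiv.ext fun k => sig_eq hm (i := 0) (i' := 0) (congrArg Subtype.val (hfix k 0)).symm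
  let K4 : Subgroup sg.ker :=
    { carrier := {k | ∀ i, k.1 * memC 0 i * k.1⁻¹ = memC 0 i}
      one_mem' := fun i => by simp
      mul_mem' := fun {a b} ha hb i => by
        rw [Subgroup.coe_mul, show a.1 * b.1 * memC 0 i * (a.1 * b.1)⁻¹ = a.1 * (b.1 * memC 0 i * b.1⁻¹) * a.1⁻¹ by
          group, hb i, ha i]
      inv_mem' := fun {a} ha i => by
        conv_lhs => rw [← ha i]
        simp [mul_assoc] }
  have hn : K4.Normal := ⟨fun k hk a i => by
    obtain ⟨i', hi'⟩ := conj_memC a.1⁻¹ 0 i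
    have h0 : sg a.1⁻¹ 0 = 0 := by rw [map_inv, MonoidHom.mem_ker.1 a.2, inv_one, Equiv.Perm.one_apply]
    rw [h0] at hi'
    show a.1 * k.1 * a.1⁻¹ * memC 0 i * (a.1 * k.1 * a.1⁻¹)⁻¹ = memC 0 i
    calc a.1 * k.1 * a.1⁻¹ * memC 0 i * (a.1 * k.1 * a.1⁻¹)⁻¹ =
        a.1 * (k.1 * (a.1⁻¹ * memC 0 i * a.1⁻¹⁻¹) * k.1⁻¹) * a.1⁻¹ := by group
      _ = memC 0 i := by rw [← hi', hk i', hi']; group⟩
  obtain ⟨t, ht, htm, ht3⟩ := three_el
  let x : sg.ker ⧸ K4 := QuotientGroup.mk ⟨t, ht⟩
  have hx3 : x ^ 3 = 1 := by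
    rw [← QuotientGroup.mk_pow]
    exact (QuotientGroup.eq_one_iff _).2 fun i => ht3 i
  have hx1 : x ≠ 1 := fun e => htm ((QuotientGroup.eq_one_iff _).1 e 0)
  have := Fact.mk Nat.prime_three
  have h3 : 3 ∣ Nat.card (sg.ker ⧸ K4) := orderOf_eq_prime hx3 hx1 ▸ orderOf_dvd_natCard x
  have hcard := Subgroup.card_eq_card_quotient_mul_card_subgroup K4
  rw [card_ker] at hcard
  have hgo : orderOf g ∣ Nat.card K4 := by
    have := Subgroup.orderOf_dvd_natCard K4 (x := ⟨g, hk⟩) (fun i => hfix 0 i)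
    rwa [← orderOf_injective sg.ker.subtype Subtype.val_injective] at this
  obtain ⟨m, hm'⟩ := h3
  have hdvd : orderOf g ∣ 2 ^ 13 := hgo.trans ⟨m, by rw [hm', mul_assoc] at hcard; linarith⟩
  obtain ⟨n, -, hn'⟩ := (Nat.dvd_prime_pow Nat.prime_two).1 hdvd
  have hgQ := ker_two_part hk hn'
  refine QS_facts.2 ⟨g, hgQ⟩ (congrArg Multiplicative.ofAdd (funext fun j => ?_))
  unfold bit
  rw [if_pos (show g * selEl j * g⁻¹ = selEl j by rw [(hg (selEl j) (pair_mem _ _ _)).eq, mul_inv_cancel_right])]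
  rfl

end Cfsg.Lib.FiFour.Quad
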